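import Groth.Agent.H64.Pts.ChartTop
import Groth.Agent.H64.Stk.PostcompFF
import Groth.Agent.H64.Psh.SmoothLoc2

set_option autoImplicit false
universe u
open CategoryTheory CategoryTheory.Limits AlgebraicGeometry Opposite

/-! Surjective charts are surjective on points; the topology of `|𝒳|` through one flat, locally
finitely presented, surjective chart. -/

namespace Groth.Agent.H64.Pts

open AlgSt Groth.Agent.H32 Groth.Agent.H64 Groth.Agent.H64.Recog Groth.Agent.H64.FpRep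
  Groth.Agent.H64.PTh

variable {S : Scheme.{u}} {𝒳 : AlgSt.Cat S}

/-- every point of `𝒳` is a point of a chart (from the spectrum of a field) -/
theorem exists_ofChart_eq (h𝒳 : FibCat.IsFibGrpd 𝒳.p) (ξ : Points 𝒳) :
    ∃ (U' : Over S) (z : FibCat.overCat U' ⥤ᵇ 𝒳) (t : ↥U'.left), Points.ofChart z t = ξ := by
  obtain ⟨p, rfl⟩ := Points.mk_surjective ξ
  obtain ⟨z, i, -⟩ := exists_yoneda h𝒳 p.obj p.lies
  let t₀ : ↥(Over.mk p.str).left := IsLocalRing.closedPoint p.K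
  refine ⟨Over.mk p.str, z, t₀, ?_⟩
  apply Points.sound
  refine ⟨_, 𝟙 _, z.map (ovTo _) ≫ i.hom, trivial⟩

/-- a surjective chart is surjective on points -/
theorem surjective_ofChart (h𝒳 : FibCat.IsFibGrpd 𝒳.p) {U : Over S}
    (x : FibCat.overCat U ⥤ᵇ 𝒳) (hx : RepByAlgSpWith AlgSp.IsSurjectiveMor x) :
    Function.Surjective (Points.ofChart x) := by
  intro ξ
  obtain ⟨U', z, t, rfl⟩ := exists_ofChart_eq h𝒳 ξ
  obtain ⟨F, e, he, hs⟩ := hx U' z
  obtain ⟨r, rfl⟩ := surjective_prα x z e hs t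
  exact ⟨prβ x z e r, (ofChart_prα x z e r).symm⟩

/-- the topology of `|𝒳|` through one flat, locally finitely presented, surjective scheme chart -/
theorem isOpen_iff_preimage_ofChart (h𝒳 : IsAlgStack Scheme.fppfPrecoverage 𝒳) {U : Over S}
    (x : FibCat.overCat U ⥤ᵇ 𝒳) (hx₁ : RepByAlgSpWith (AlgSp.LocP @Flat) x)
    (hx₂ : RepByAlgSpWith (AlgSp.LocP @LocallyOfFinitePresentation) x)
    (hx₃ : RepByAlgSpWith AlgSp.IsSurjectiveMor x) (W : Set (Points 𝒳)) :
    IsOpen W ↔ IsOpen (Points.ofChart x ⁻¹' W) := by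
  constructor
  · intro hW
    exact hW.preimage (continuous_ofChart h𝒳 x)
  · intro hW
    have h := isOpenMap_ofChart h𝒳.isStack.1 x hx₁ hx₂ _ hW
    rwa [Set.image_preimage_eq _ (surjective_ofChart h𝒳.isStack.1 x hx₃)] at h

theorem isQuotientMap_ofChart (h𝒳 : IsAlgStack Scheme.fppfPrecoverage 𝒳) {U : Over S}
    (x : FibCat.overCat U ⥤ᵇ 𝒳) (hx₁ : RepByAlgSpWith (AlgSp.LocP @Flat) x)
    (hx₂ : RepByAlgSpWith (AlgSp.LocP @LocallyOfFinitePresentation) x)
    (hx₃ : RepByAlgSpWith AlgSp.IsSurjectiveMor x) :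
    Topology.IsQuotientMap (Points.ofChart x) :=
  (isOpenMap_ofChart h𝒳.isStack.1 x hx₁ hx₂).isQuotientMap (continuous_ofChart h𝒳 x)
    (surjective_ofChart h𝒳.isStack.1 x hx₃)

end Groth.Agent.H64.Pts
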