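import Groth.Agent.H64.Pts.Chart
import Groth.Agent.H64.Psh.DiagLft
import Groth.Agent.H50.UnivOpen

set_option autoImplicit false
universe u
open CategoryTheory CategoryTheory.Limits AlgebraicGeometry Opposite

/-! Scheme charts of an algebraic stack are continuous; flat and locally finitely presented ones are
open. -/

namespace Groth.Agent.H64.Pts

open AlgSt Groth.Agent.H32 Groth.Agent.H64 Groth.Agent.H64.Recog Groth.Agent.H64.FpRep
  Groth.Agent.H64.PTh

variable {S : Scheme.{u}} {𝒳 : AlgSt.Cat S}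

/-- every presentation of the base change of a morphism with property `P` has `P` -/
theorem prop_of_any_presentation {P : MorphismProperty (AlgSp.Sp S)} [P.RespectsIso]
    {𝒴 : AlgSt.Cat S} (f : 𝒴 ⥤ᵇ 𝒳) (h : RepByAlgSpWith P f) (U : Over S)
    (y : FibCat.overCat U ⥤ᵇ 𝒳) {F : AlgSp.Sp S} (e : ofSp F ⥤ᵇ FibCat.fp y f)
    (he : FibCat.IsEquivOver e) :
    P (spMapOfOver (BasedFunctor.comp e (FibCat.fpFst y f))) := by
  obtain ⟨F₁, e₁, he₁, hP₁⟩ := h U y
  obtain ⟨ψ, hψ, hcomp⟩ := exists_iso_spMapOfOver (FibCat.fpFst y f) e₁ he₁ e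
  have : IsIso ψ := hψ he
  rw [hcomp]
  exact (P.cancel_left_of_respectsIso ψ _).2 hP₁

theorem locP_univOpen_of_flat_lfp {F G : AlgSp.Sp S} (a : F ⟶ G) (h1 : AlgSp.LocP @Flat a)
    (h2 : AlgSp.LocP @LocallyOfFinitePresentation a) : AlgSp.LocP @UniversallyOpen a :=
  fun _ _ a' b' hh e1 e2 hc => by
    have : Flat hh.left := h1 a' b' hh e1 e2 hc
    have : LocallyOfFinitePresentation hh.left := h2 a' b' hh e1 e2 hc
    exact (inferInstance : UniversallyOpen hh.left)

theorem locP_univOpen_of_smooth {F G : AlgSp.Sp S} (a : F ⟶ G) (h1 : AlgSp.LocP @Smooth a) :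
    AlgSp.LocP @UniversallyOpen a :=
  fun _ _ a' b' hh e1 e2 hc => by
    have : Smooth hh.left := h1 a' b' hh e1 e2 hc
    exact (inferInstance : UniversallyOpen hh.left)

theorem isOpenMap_prα {U U' : Over S} (x : FibCat.overCat U ⥤ᵇ 𝒳) (x' : FibCat.overCat U' ⥤ᵇ 𝒳)
    (F : AlgSp.Space S) (e : ofSp F.obj ⥤ᵇ FibCat.fp x' x)
    (h : AlgSp.LocP @UniversallyOpen
      (spMapOfOver (BasedFunctor.comp e (FibCat.fpFst x' x)))) : IsOpenMap (prα x x' e) :=
  (AlgSp.Points.schemeHomeo U').symm.isOpenMap.comp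
    (Groth.Agent.H50.isOpenMap_points_of_locP_univOpen F.property (AlgSp.IsAlgSpace.yon_obj U') _ h)

theorem surjective_prα {U U' : Over S} (x : FibCat.overCat U ⥤ᵇ 𝒳) (x' : FibCat.overCat U' ⥤ᵇ 𝒳)
    {F : AlgSp.Sp S} (e : ofSp F ⥤ᵇ FibCat.fp x' x)
    (h : AlgSp.IsSurjectiveMor (spMapOfOver (BasedFunctor.comp e (FibCat.fpFst x' x)))) :
    Function.Surjective (prα x x' e) :=
  (AlgSp.Points.schemeHomeo U').symm.surjective.comp h

/-- every scheme chart of an algebraic stack is continuous -/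
theorem continuous_ofChart (h𝒳 : IsAlgStack Scheme.fppfPrecoverage 𝒳) {U' : Over S}
    (z : FibCat.overCat U' ⥤ᵇ 𝒳) : Continuous (Points.ofChart z) := by
  obtain ⟨U, x, hx₁, hx₂⟩ := h𝒳.atlas
  obtain ⟨F, e, he, hsm⟩ := hx₁ U' z
  have : (AlgSp.IsSurjectiveMor (S := S)).RespectsIso := isSurjectiveMor_respectsIso
  have hsurj := prop_of_any_presentation x hx₂ U' z e he
  have hopen : IsOpenMap (prα x z e) := isOpenMap_prα x z F e (locP_univOpen_of_smooth _ hsm)
  have hs : Function.Surjective (prα x z e) := surjective_prα x z e hsurj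
  refine continuous_def.2 fun W hW => ?_
  have hWx : IsOpen (Points.ofChart x ⁻¹' W) := hW U x hx₁
  have : Points.ofChart z ⁻¹' W = prα x z e '' (prβ x z e ⁻¹' (Points.ofChart x ⁻¹' W)) := by
    ext u'
    constructor
    · intro hu'
      obtain ⟨r, rfl⟩ := hs u'
      refine ⟨r, ?_, rfl⟩
      show Points.ofChart x (prβ x z e r) ∈ W
      rw [← ofChart_prα]
      exact hu'
    · rintro ⟨r, hr, rfl⟩
      show Points.ofChart z (prα x z e r) ∈ W
      rw [ofChart_prα]
      exact hr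
  rw [this]
  exact hopen _ (hWx.preimage (continuous_prβ x z e))

/-- a flat and locally finitely presented scheme chart is open -/
theorem isOpenMap_ofChart (h𝒳 : FibCat.IsFibGrpd 𝒳.p) {U : Over S}
    (x : FibCat.overCat U ⥤ᵇ 𝒳) (hx₁ : RepByAlgSpWith (AlgSp.LocP @Flat) x)
    (hx₂ : RepByAlgSpWith (AlgSp.LocP @LocallyOfFinitePresentation) x) :
    IsOpenMap (Points.ofChart x) := by
  intro A hA U' x' _
  obtain ⟨F, e, he, hfl⟩ := hx₁ U' x'
  have : (AlgSp.LocP (S := S) @LocallyOfFinitePresentation).RespectsIso := locP_respectsIso _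
  have hlfp := prop_of_any_presentation x hx₂ U' x' e he
  have hopen : IsOpenMap (prα x x' e) :=
    isOpenMap_prα x x' F e (locP_univOpen_of_flat_lfp _ hfl hlfp)
  have : Points.ofChart x' ⁻¹' (Points.ofChart x '' A) = prα x x' e '' (prβ x x' e ⁻¹' A) := by
    ext u'
    constructor
    · rintro ⟨t, ht, hh⟩
      obtain ⟨r, hr1, hr2⟩ := exists_pr_of_ofChart_eq h𝒳 x x' e he u' t hh.symm
      exact ⟨r, by rw [Set.mem_preimage, hr2]; exact ht, hr1⟩
    · rintro ⟨r, hr, rfl⟩
      exact ⟨prβ x x' e r, hr, (ofChart_prα x x' e r).symm⟩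
  rw [this]
  exact hopen _ (hA.preimage (continuous_prβ x x' e))

end Groth.Agent.H64.Pts
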