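import Groth.Agent.H64.FPtFp
import Groth.Agent.H64.Stk.EquivTools

set_option autoImplicit false
universe w₃ v₃ w₂ v₂ w v u
open CategoryTheory CategoryTheory.Limits AlgebraicGeometry

/-! Basic functoriality of the points of a category over `(Sch/S)`. -/

namespace Groth.Agent.H64.Pts

open AlgSt Groth.Agent.H32 Groth.Agent.H64

variable {S : Scheme.{u}} {𝒳 : BasedCategory.{v, w} (Over S)} {𝒴 : BasedCategory.{v₂, w₂} (Over S)}
  {𝒵 : BasedCategory.{v₃, w₃} (Over S)}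

theorem map_comp (f : 𝒳 ⥤ᵇ 𝒴) (g : 𝒴 ⥤ᵇ 𝒵) (x : Points 𝒳) :
    Points.map (BasedFunctor.comp f g) x = Points.map g (Points.map f x) := by
  obtain ⟨p, rfl⟩ := Points.mk_surjective x
  rfl

theorem map_id (x : Points 𝒳) : Points.map (BasedFunctor.id 𝒳) x = x := by
  obtain ⟨p, rfl⟩ := Points.mk_surjective x
  rfl

/-- 2-related functors induce the same map on points -/
theorem map_eq_of_hom {f f' : 𝒳 ⥤ᵇ 𝒴} (α : f ⟶ f') (x : Points 𝒳) :
    Points.map f x = Points.map f' x := by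
  obtain ⟨p, rfl⟩ := Points.mk_surjective x
  apply Points.sound
  exact ⟨p.map f, 𝟙 _, bapp α p.obj, trivial⟩

theorem rel_of_mk_eq (h𝒳 : FibCat.IsFibGrpd 𝒳.p) {p q : FPt 𝒳} (h : Points.mk p = Points.mk q) :
    FPt.Rel p q :=
  (fptRel_equivalence h𝒳).eqvGen_iff.mp (Quot.eqvGen_exact h)

theorem map_bijective_of_isEquivOver {f : 𝒳 ⥤ᵇ 𝒴} (hf : FibCat.IsEquivOver f) :
    Function.Bijective (Points.map f) := by
  obtain ⟨g, ⟨e₁⟩, ⟨e₂⟩⟩ := hf
  refine ⟨Function.LeftInverse.injective (g := Points.map g) (fun x => ?_),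
    Function.RightInverse.surjective (g := Points.map g) (fun y => ?_)⟩
  · rw [← map_comp, map_eq_of_hom e₁.hom, map_id]
  · rw [← map_comp, map_eq_of_hom e₂.hom, map_id]

theorem ofChart_eq_map {U : Over S} (x : FibCat.overCat U ⥤ᵇ 𝒳) (t : ↥U.left) :
    Points.ofChart x t = Points.map x (Points.ofChart (BasedFunctor.id (FibCat.overCat U)) t) :=
  rfl

theorem ofChart_comp {U : Over S} (x : FibCat.overCat U ⥤ᵇ 𝒳) (f : 𝒳 ⥤ᵇ 𝒴) (t : ↥U.left) :
    Points.ofChart (BasedFunctor.comp x f) t = Points.map f (Points.ofChart x t) := rfl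

theorem ofChart_eq_of_hom {U : Over S} {x x' : FibCat.overCat U ⥤ᵇ 𝒳} (α : x ⟶ x') (t : ↥U.left) :
    Points.ofChart x t = Points.ofChart x' t := by
  rw [ofChart_eq_map x, ofChart_eq_map x', map_eq_of_hom α]

end Groth.Agent.H64.Pts
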