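import Groth.Agent.H64.Pts.Atlas

set_option autoImplicit false
universe u
open CategoryTheory CategoryTheory.Limits AlgebraicGeometry Opposite

/-! Charts from algebraic spaces. -/

namespace Groth.Agent.H64.Pts

open AlgSt Groth.Agent.H32 Groth.Agent.H64 Groth.Agent.H64.Recog Groth.Agent.H64.FpRep
  Groth.Agent.H64.PTh

variable {S : Scheme.{u}} {𝒳 : AlgSt.Cat S}

/-- morphisms to an algebraic stack are continuous on points -/
theorem continuous_map (h𝒳 : IsAlgStack Scheme.fppfPrecoverage 𝒳) {𝒴 : AlgSt.Cat S}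
    (f : 𝒴 ⥤ᵇ 𝒳) : Continuous (Points.map f) := by
  refine continuous_def.2 fun W hW => ?_
  intro U x _
  have h : Continuous (Points.ofChart (BasedFunctor.comp x f)) := continuous_ofChart h𝒳 _
  exact hW.preimage h

/-- the etale surjective scheme chart of the category of an algebraic space -/
theorem exists_chart_ofSp (U : AlgSp.Space S) :
    ∃ (W : Over S) (c : FibCat.overCat W ⥤ᵇ ofSp U.obj),
      RepByAlgSpWith (AlgSp.LocP @Flat) c ∧
      RepByAlgSpWith (AlgSp.LocP @LocallyOfFinitePresentation) c ∧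
      RepByAlgSpWith (AlgSp.LocP @Smooth) c ∧ RepByAlgSpWith AlgSp.IsSurjectiveMor c := by
  obtain ⟨W, p, hpE, hpS⟩ := U.property.atlas
  exact ⟨W, ofSection (uliftYonedaEquiv.{u+1} p.hom),
    repByAlgSpWith_ofSection _ U.property p
      (baseChange_locP_of_etale p hpE Groth.Agent.H50.goodClass_flat),
    repByAlgSpWith_ofSection _ U.property p
      (baseChange_locP_of_etale p hpE Groth.Agent.H50.goodClass_lfp),
    repByAlgSpWith_ofSection _ U.property p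
      (baseChange_locP_of_etale p hpE Groth.Agent.H50.goodClass_smooth),
    repByAlgSpWith_ofSection _ U.property p (baseChange_surj_of_surjective p hpS)⟩

theorem repByAlgSpWith_flat_comp {𝒳 𝒴 𝒵 : AlgSt.Cat S} (h𝒳 : FibCat.IsFibGrpd 𝒳.p)
    (h𝒴 : FibCat.IsFibGrpd 𝒴.p) (f : 𝒳 ⥤ᵇ 𝒴) (g : 𝒴 ⥤ᵇ 𝒵)
    (hf : RepByAlgSpWith (AlgSp.LocP @Flat) f) (hg : RepByAlgSpWith (AlgSp.LocP @Flat) g) :
    RepByAlgSpWith (AlgSp.LocP @Flat) (BasedFunctor.comp f g) :=
  repByAlgSpWith_comp h𝒳 h𝒴 (stableBC_locP Groth.Agent.H50.goodClass_flat)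
    (fun _ _ _ _ hY _ a b ha hb => Groth.Agent.H50.goodClass_flat.locP_comp hY a b ha hb)
    isLocalOnBase_fppf_flat f g hf hg

theorem repByAlgSpWith_lfp_comp {𝒳 𝒴 𝒵 : AlgSt.Cat S} (h𝒳 : FibCat.IsFibGrpd 𝒳.p)
    (h𝒴 : FibCat.IsFibGrpd 𝒴.p) (f : 𝒳 ⥤ᵇ 𝒴) (g : 𝒴 ⥤ᵇ 𝒵)
    (hf : RepByAlgSpWith (AlgSp.LocP @LocallyOfFinitePresentation) f)
    (hg : RepByAlgSpWith (AlgSp.LocP @LocallyOfFinitePresentation) g) :
    RepByAlgSpWith (AlgSp.LocP @LocallyOfFinitePresentation) (BasedFunctor.comp f g) :=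
  repByAlgSpWith_comp h𝒳 h𝒴 (stableBC_locP Groth.Agent.H50.goodClass_lfp)
    (fun _ _ _ _ hY _ a b ha hb => Groth.Agent.H50.goodClass_lfp.locP_comp hY a b ha hb)
    isLocalOnBase_fppf_lfp f g hf hg

/-- a flat and locally finitely presented morphism from an algebraic space is open on points -/
theorem isOpenMap_map_of_space (h𝒳 : FibCat.IsFibGrpd 𝒳.p) (U : AlgSp.Space S)
    (u : ofSp U.obj ⥤ᵇ 𝒳) (hu₁ : RepByAlgSpWith (AlgSp.LocP @Flat) u)
    (hu₂ : RepByAlgSpWith (AlgSp.LocP @LocallyOfFinitePresentation) u) :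
    IsOpenMap (Points.map u) := by
  obtain ⟨W, c, hc₁, hc₂, hc₃, hc₄⟩ := exists_chart_ofSp U
  have hF : FibCat.IsFibGrpd (ofSp U.obj).p := Stk.isFibGrpd_ofPsh _
  have hW : FibCat.IsFibGrpd (FibCat.overCat W).p := (isFibSetoid_overCat W).1
  intro A hA
  have hA' : IsOpen (Points.ofChart c ⁻¹' A) := hA W c hc₃
  have hopen : IsOpenMap (Points.ofChart (BasedFunctor.comp c u)) :=
    isOpenMap_ofChart h𝒳 _ (repByAlgSpWith_flat_comp hW hF c u hc₁ hu₁)
      (repByAlgSpWith_lfp_comp hW hF c u hc₂ hu₂)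
  have : Points.map u '' A = Points.ofChart (BasedFunctor.comp c u) '' (Points.ofChart c ⁻¹' A) := by
    ext ξ
    constructor
    · rintro ⟨η, hη, rfl⟩
      obtain ⟨t, rfl⟩ := surjective_ofChart hF c hc₄ η
      exact ⟨t, hη, rfl⟩
    · rintro ⟨t, ht, rfl⟩
      exact ⟨Points.ofChart c t, ht, rfl⟩
  rw [this]
  exact hopen _ hA'

/-- the topology of `|𝒳|` through one flat, locally finitely presented, surjective chart from an
algebraic space -/
theorem isOpen_iff_preimage_map_of_space (h𝒳 : IsAlgStack Scheme.fppfPrecoverage 𝒳)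
    (U : AlgSp.Space S) (p : ofSp U.obj ⥤ᵇ 𝒳) (hp₁ : RepByAlgSpWith (AlgSp.LocP @Flat) p)
    (hp₂ : RepByAlgSpWith (AlgSp.LocP @LocallyOfFinitePresentation) p)
    (hp₃ : RepByAlgSpWith AlgSp.IsSurjectiveMor p) (W : Set (Points 𝒳)) :
    IsOpen W ↔ IsOpen (Points.map p ⁻¹' W) := by
  constructor
  · intro hW
    exact hW.preimage (continuous_map h𝒳 p)
  · intro hW
    obtain ⟨W₀, c, hc₁, hc₂, hc₃, hc₄⟩ := exists_chart_ofSp U
    have hF : FibCat.IsFibGrpd (ofSp U.obj).p := Stk.isFibGrpd_ofPsh _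
    have hW₀ : FibCat.IsFibGrpd (FibCat.overCat W₀).p := (isFibSetoid_overCat W₀).1
    rw [isOpen_iff_preimage_ofChart h𝒳 (BasedFunctor.comp c p)
      (repByAlgSpWith_flat_comp hW₀ hF c p hc₁ hp₁) (repByAlgSpWith_lfp_comp hW₀ hF c p hc₂ hp₂)
      (repByAlgSpWith_surj_comp hW₀ hF c p hc₄ hp₃)]
    exact hW W₀ c hc₃

end Groth.Agent.H64.Pts
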