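import Groth.Agent.H64.Pts.Atlas

set_option autoImplicit false
universe u
open CategoryTheory CategoryTheory.Limits AlgebraicGeometry Opposite

/-! Surjectivity of morphisms representable by algebraic spaces, on points. -/

namespace Groth.Agent.H64.Pts

open AlgSt Groth.Agent.H32 Groth.Agent.H64 Groth.Agent.H64.Recog Groth.Agent.H64.FpRep
  Groth.Agent.H64.PTh

variable {S : Scheme.{u}}

/-- the map on points of a functor from the category of a sheaf to a slice, as a composite -/
theorem map_comp_σ_eq {F : AlgSp.Sp S} {U : Over S} (Φ : ofSp F ⥤ᵇ FibCat.overCat U) :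
    Points.map Φ ∘ σ F = ptU U ∘ AlgSp.Points.toScheme U ∘ AlgSp.Points.map (spMapOfOver Φ) :=
  funext fun r => map_σ_eq_ptU Φ r

theorem toScheme_bijective (U : Over S) : Function.Bijective (AlgSp.Points.toScheme U) :=
  (AlgSp.Points.schemeEquiv U).symm.bijective

theorem surjective_map_iff_isSurjectiveMor {F : AlgSp.Sp S} {U : Over S}
    (Φ : ofSp F ⥤ᵇ FibCat.overCat U) :
    Function.Surjective (Points.map Φ) ↔ AlgSp.IsSurjectiveMor (spMapOfOver Φ) := by
  have h := map_comp_σ_eq Φ
  constructor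
  · intro hs
    have h1 : Function.Surjective (Points.map Φ ∘ σ F) := hs.comp σ_surjective
    rw [h] at h1
    have h2 : Function.Surjective
        (AlgSp.Points.toScheme U ∘ AlgSp.Points.map (spMapOfOver Φ)) :=
      (Function.Surjective.of_comp_iff' (ptU_bijective U) _).1 h1
    exact (Function.Surjective.of_comp_iff' (toScheme_bijective U) _).1 h2
  · intro hs
    have h1 : Function.Surjective
        (ptU U ∘ AlgSp.Points.toScheme U ∘ AlgSp.Points.map (spMapOfOver Φ)) :=
      (ptU_bijective U).2.comp ((toScheme_bijective U).2.comp hs)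
    rw [← h] at h1
    exact Function.Surjective.of_comp h1

variable {𝒳 𝒴 : AlgSt.Cat S}

/-- surjectivity of the base changes to schemes, on points of stacks -/
theorem repByAlgSpWith_surj_iff (f : 𝒳 ⥤ᵇ 𝒴) (hf : RepByAlgSp1 f) :
    RepByAlgSpWith AlgSp.IsSurjectiveMor f ↔
      ∀ (U : Over S) (y : FibCat.overCat U ⥤ᵇ 𝒴), IsSurjective (FibCat.fpFst y f) := by
  constructor
  · intro h U y
    obtain ⟨F, e, he, hs⟩ := h U y
    rw [← surjective_map_iff_isSurjectiveMor] at hs
    have h1 : Points.map (BasedFunctor.comp e (FibCat.fpFst y f)) =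
        Points.map (FibCat.fpFst y f) ∘ Points.map e := funext fun r => map_comp _ _ r
    rw [h1] at hs
    exact Function.Surjective.of_comp hs
  · intro h U y
    obtain ⟨F, e, he⟩ := hf U y
    refine ⟨F, e, he, ?_⟩
    rw [← surjective_map_iff_isSurjectiveMor]
    have h1 : Points.map (BasedFunctor.comp e (FibCat.fpFst y f)) =
        Points.map (FibCat.fpFst y f) ∘ Points.map e := funext fun r => map_comp _ _ r
    rw [h1]
    exact (h U y).comp (map_bijective_of_isEquivOver he).2

/-- surjectivity on points is tested on base changes to schemes -/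
theorem isSurjective_iff_forall_fpFst (h𝒳 : FibCat.IsFibGrpd 𝒳.p) (h𝒴 : FibCat.IsFibGrpd 𝒴.p)
    (f : 𝒳 ⥤ᵇ 𝒴) :
    IsSurjective f ↔
      ∀ (U : Over S) (y : FibCat.overCat U ⥤ᵇ 𝒴), IsSurjective (FibCat.fpFst y f) := by
  constructor
  · intro h U y
    exact isSurjective_fpFst h𝒳 h𝒴 (isFibSetoid_overCat U).1 f y h
  · intro h η
    obtain ⟨U', z, t, rfl⟩ := exists_ofChart_eq h𝒴 η
    obtain ⟨w, hw⟩ := h U' z (ptU U' t)
    refine ⟨Points.map (FibCat.fpSnd z f) w, ?_⟩
    rw [← map_comp, ← map_eq_of_hom (FibCat.fpIso z f).hom, map_comp, hw]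
    rfl

theorem isSurjective_iff_repByAlgSpWith (h𝒳 : FibCat.IsFibGrpd 𝒳.p) (h𝒴 : FibCat.IsFibGrpd 𝒴.p)
    (f : 𝒳 ⥤ᵇ 𝒴) (hf : RepByAlgSp1 f) :
    IsSurjective f ↔ RepByAlgSpWith AlgSp.IsSurjectiveMor f := by
  rw [repByAlgSpWith_surj_iff f hf, isSurjective_iff_forall_fpFst h𝒳 h𝒴 f]

end Groth.Agent.H64.Pts
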