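import Groth.Agent.H64.Pts.Compare
import Groth.Agent.H64.Psh.OverCatRep

set_option autoImplicit false
universe u
open CategoryTheory CategoryTheory.Limits AlgebraicGeometry Opposite

/-! The points of the slice `(Sch/U)` are the points of `U`. -/

namespace Groth.Agent.H64.Pts

open AlgSt Groth.Agent.H32 Groth.Agent.H64 Groth.Agent.H64.Recog Groth.Agent.H64.FpRep
  Groth.Agent.H64.PTh

variable {S : Scheme.{u}}

/-- the point of `(Sch/U)` of a point of `U` -/
noncomputable def ptU (U : Over S) (t : ↥U.left) : Points (FibCat.overCat U) :=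
  Points.ofChart (BasedFunctor.id (FibCat.overCat U)) t

theorem ptU_eq (U : Over S) (t : ↥U.left) :
    ptU U t = Points.map (toOverCat U) (σ _ (AlgSp.Points.ofScheme U t)) := rfl

theorem map_toOverCat_σ (U : Over S) (y : AlgSp.Points ((AlgSp.yon S).obj U)) :
    Points.map (toOverCat U) (σ _ y) = ptU U (AlgSp.Points.toScheme U y) := by
  rw [ptU_eq, AlgSp.Points.ofScheme_toScheme]

theorem ptU_bijective (U : Over S) : Function.Bijective (ptU U) := by
  have h1 : Function.Bijective (Points.map (toOverCat U)) :=
    map_bijective_of_isEquivOver (isEquivOver_toOverCat U)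
  have h2 : Function.Bijective (σ ((AlgSp.yon S).obj U)) := σ_bijective
  have h3 : Function.Bijective (AlgSp.Points.ofScheme U) := (AlgSp.Points.schemeEquiv U).bijective
  exact (h1.comp h2).comp h3

theorem ofChart_eq {𝒳 : AlgSt.Cat S} {U : Over S} (x : FibCat.overCat U ⥤ᵇ 𝒳) (t : ↥U.left) :
    Points.ofChart x t = Points.map x (ptU U t) := rfl

/-- the map on points of a functor from the category of a sheaf to a slice -/
theorem map_σ_eq_ptU {F : AlgSp.Sp S} {U : Over S} (Φ : ofSp F ⥤ᵇ FibCat.overCat U)
    (r : AlgSp.Points F) :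
    Points.map Φ (σ F r) =
      ptU U (AlgSp.Points.toScheme U (AlgSp.Points.map (spMapOfOver Φ) r)) := by
  rw [map_σ_eq, map_toOverCat_σ]

end Groth.Agent.H64.Pts
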