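import Groth.Agent.H64.Pts.Basic
import Groth.Agent.H64.Psh.DiagIff

set_option autoImplicit false
universe u
open CategoryTheory CategoryTheory.Limits AlgebraicGeometry Opposite

/-! The points of the category of a sheaf are the points of the sheaf. -/

namespace Groth.Agent.H64.Pts

open AlgSt Groth.Agent.H32 Groth.Agent.H64 Groth.Agent.H64.Recog Groth.Agent.H64.FpRep
  Groth.Agent.H64.PTh

variable {S : Scheme.{u}} {F G : AlgSp.Sp S}

/-- a field-valued point of a sheaf as a field-valued point of its category -/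
noncomputable def ptOfField (p : AlgSp.FieldPt F) : FPt (ofSp F) :=
  { K := p.K, str := p.str, obj := ⟨Over.mk p.str, p.val⟩, lies := rfl }

theorem rel_ptOfField {p q : AlgSp.FieldPt F} (h : AlgSp.FieldPt.Rel p q) :
    FPt.Rel (ptOfField p) (ptOfField q) := by
  obtain ⟨Ω, _, w, a, b, hab⟩ := h
  let r : FPt (ofSp F) :=
    { K := Ω, str := w, obj := ⟨Over.mk w, F.obj.map a.op p.val⟩, lies := rfl }
  exact ⟨r, ⟨a, rfl⟩, ⟨b, hab.symm⟩, trivial⟩

/-- the comparison map `|F| → |ofSp F|` -/
noncomputable def σ (F : AlgSp.Sp S) : AlgSp.Points F → Points (ofSp F) :=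
  Quotient.lift (fun p => Points.mk (ptOfField p)) (fun _ _ h => Points.sound (rel_ptOfField h))

@[simp] theorem σ_mk (p : AlgSp.FieldPt F) : σ F (AlgSp.Points.mk p) = Points.mk (ptOfField p) := rfl

theorem exists_ptOfField (q : FPt (ofSp F)) : ∃ p : AlgSp.FieldPt F, ptOfField p = q := by
  obtain ⟨K, str, ⟨base, sec⟩, lies⟩ := q
  have lies' : base = Over.mk str := lies
  subst lies'
  exact ⟨⟨K, str, sec⟩, rfl⟩

theorem σ_surjective : Function.Surjective (σ F) := by
  intro y
  obtain ⟨q, rfl⟩ := Points.mk_surjective y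
  obtain ⟨p, rfl⟩ := exists_ptOfField q
  exact ⟨AlgSp.Points.mk p, rfl⟩

theorem rel_of_rel_ptOfField {p q : AlgSp.FieldPt F} (h : FPt.Rel (ptOfField p) (ptOfField q)) :
    AlgSp.FieldPt.Rel p q := by
  obtain ⟨r, a, b, -⟩ := h
  obtain ⟨r', rfl⟩ := exists_ptOfField r
  refine ⟨r'.K, r'.field, r'.str, a.hom, b.hom, ?_⟩
  exact a.map_sec.trans b.map_sec.symm

theorem σ_injective : Function.Injective (σ F) := by
  intro x y h
  induction x using AlgSp.Points.ind with
  | h p =>
  induction y using AlgSp.Points.ind with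
  | h q =>
  apply AlgSp.Points.sound
  exact rel_of_rel_ptOfField (rel_of_mk_eq (Stk.isFibGrpd_ofPsh _) h)

theorem σ_bijective : Function.Bijective (σ F) := ⟨σ_injective, σ_surjective⟩

/-- naturality of the comparison -/
theorem σ_map (a : F ⟶ G) (r : AlgSp.Points F) :
    Points.map (ofSpMap a) (σ F r) = σ G (AlgSp.Points.map a r) := by
  induction r using AlgSp.Points.ind with
  | h p => rfl

/-- the map on points of a functor to a slice, in terms of its section map -/
theorem map_σ_eq {U : Over S} (Φ : ofSp F ⥤ᵇ FibCat.overCat U) (r : AlgSp.Points F) :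
    Points.map Φ (σ F r) =
      Points.map (toOverCat U) (σ _ (AlgSp.Points.map (spMapOfOver Φ) r)) := by
  obtain ⟨β⟩ := nonempty_iso_ofSpMap_spMapOfOver Φ
  have α : BasedFunctor.comp (ofSpMap (spMapOfOver Φ)) (toOverCat U) ≅ Φ := bwrIso β (toOverCat U)
  rw [← σ_map, ← map_comp, map_eq_of_hom α.hom]

end Groth.Agent.H64.Pts
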