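import Groth.Agent.H64.Pts.Surj
import Groth.Agent.H64.Pts.Space
import Groth.Agent.H64.Psh.QCompact

set_option autoImplicit false
universe u
open CategoryTheory CategoryTheory.Limits AlgebraicGeometry Opposite

/-! Quasi-compact algebraic stacks and compactness of the space of points. -/

namespace Groth.Agent.H64.Pts

open AlgSt Groth.Agent.H32 Groth.Agent.H64 Groth.Agent.H64.Recog Groth.Agent.H64.FpRep
  Groth.Agent.H64.PTh

variable {S : Scheme.{u}}

/-- the map on points of a functor between slices -/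
theorem map_overMap_ptU {V U : Over S} (k : V ⟶ U) (v : ↥V.left) :
    Points.map (AlgSt.overMap k) (ptU V v) = ptU U (k.left v) := by
  rw [ptU_eq, ptU_eq, ← map_comp]
  have h1 : BasedFunctor.comp (toOverCat V) (AlgSt.overMap k) =
      BasedFunctor.comp (ofSpMap ((AlgSp.yon S).map k)) (toOverCat U) := rfl
  rw [h1, map_comp, σ_map]
  have h2 : AlgSp.Points.map ((AlgSp.yon S).map k) (AlgSp.Points.ofScheme V v) =
      AlgSp.Points.ofScheme U (k.left v) := AlgSp.Points.map_yon_map_apply k v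
  rw [h2]

variable {𝒳 : AlgSt.Cat S}

theorem ofChart_overMap_comp {V U : Over S} (k : V ⟶ U) (x : FibCat.overCat U ⥤ᵇ 𝒳)
    (v : ↥V.left) :
    Points.ofChart (BasedFunctor.comp (AlgSt.overMap k) x) v = Points.ofChart x (k.left v) := by
  rw [ofChart_eq, map_comp, map_overMap_ptU, ← ofChart_eq]

/-- the map on points of a chart is surjective when the chart is surjective on its scheme -/
theorem isSurjective_of_surjective_ofChart {U : Over S} (x : FibCat.overCat U ⥤ᵇ 𝒳)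
    (h : Function.Surjective (Points.ofChart x)) : IsSurjective x := by
  intro ξ
  obtain ⟨t, rfl⟩ := h ξ
  exact ⟨ptU U t, rfl⟩

theorem compactSpace_of_isQuasiCompact (h𝒳 : IsAlgStack Scheme.fppfPrecoverage 𝒳)
    (h : IsQuasiCompact 𝒳) : CompactSpace (Points 𝒳) := by
  obtain ⟨U, x, hU, hx₁, hx₂⟩ := h
  have hs : Function.Surjective (Points.ofChart x) := surjective_ofChart h𝒳.isStack.1 x hx₂
  have hc : Continuous (Points.ofChart x) := continuous_ofChart h𝒳 x
  constructor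
  rw [← Set.range_eq_univ.2 hs]
  exact isCompact_range hc

/-- a smooth chart is flat and locally finitely presented -/
theorem repByAlgSpWith_flat_of_smooth {𝒴 : AlgSt.Cat S} (f : 𝒴 ⥤ᵇ 𝒳)
    (hf : RepByAlgSpWith (AlgSp.LocP @Smooth) f) : RepByAlgSpWith (AlgSp.LocP @Flat) f :=
  repByAlgSpWith_locP_mono (fun _ _ g hg => by
    have : Smooth g := hg
    exact (inferInstance : Flat g)) f hf

theorem repByAlgSpWith_lfp_of_smooth {𝒴 : AlgSt.Cat S} (f : 𝒴 ⥤ᵇ 𝒳)
    (hf : RepByAlgSpWith (AlgSp.LocP @Smooth) f) :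
    RepByAlgSpWith (AlgSp.LocP @LocallyOfFinitePresentation) f :=
  repByAlgSpWith_locP_mono (fun _ _ g hg => by
    have : Smooth g := hg
    exact (inferInstance : LocallyOfFinitePresentation g)) f hf

theorem isOpenMap_ofChart_of_smooth (h𝒳 : FibCat.IsFibGrpd 𝒳.p) {U : Over S}
    (x : FibCat.overCat U ⥤ᵇ 𝒳) (hx : RepByAlgSpWith (AlgSp.LocP @Smooth) x) :
    IsOpenMap (Points.ofChart x) :=
  isOpenMap_ofChart h𝒳 x (repByAlgSpWith_flat_of_smooth x hx) (repByAlgSpWith_lfp_of_smooth x hx)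

theorem isQuasiCompact_of_compactSpace (h𝒳 : IsAlgStack Scheme.fppfPrecoverage 𝒳)
    [CompactSpace (Points 𝒳)] : IsQuasiCompact 𝒳 := by
  obtain ⟨U, x, hx₁, hx₂⟩ := h𝒳.atlas
  have hs : Function.Surjective (Points.ofChart x) := surjective_ofChart h𝒳.isStack.1 x hx₂
  have ho : IsOpenMap (Points.ofChart x) := isOpenMap_ofChart_of_smooth h𝒳.isStack.1 x hx₁
  -- the images of the affine opens cover
  obtain ⟨t, ht⟩ := isCompact_univ.elim_finite_subcover
    (fun V : U.left.affineOpens => Points.ofChart x '' (V.1 : Set ↥U.left))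
    (fun V => ho _ V.1.2) (by
      intro ξ _
      obtain ⟨u, rfl⟩ := hs ξ
      obtain ⟨V, hV, huV⟩ : ∃ V : U.left.Opens, IsAffineOpen V ∧ u ∈ V := by
        obtain ⟨_, ⟨V, hV, rfl⟩, huV, -⟩ := U.left.isBasis_affineOpens.exists_subset_of_mem_open
          (Set.mem_univ u) isOpen_univ
        exact ⟨V, hV, huV⟩
      exact Set.mem_iUnion.2 ⟨⟨V, hV⟩, u, huV, rfl⟩)
  -- the union of the finitely many affine opens
  let V' : U.left.Opens := ⨆ V ∈ t, (V : U.left.affineOpens).1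
  have hV'c : IsCompact (V' : Set ↥U.left) := by
    have : (V' : Set ↥U.left) = ⋃ V ∈ t, ((V : U.left.affineOpens).1 : Set ↥U.left) := by
      simp [V']
    rw [this]
    exact t.isCompact_biUnion fun V _ => V.2.isCompact
  let W : Over S := Over.mk (V'.ι ≫ U.hom)
  let k : W ⟶ U := Over.homMk V'.ι rfl
  have hk : Smooth k.left := (inferInstance : Smooth V'.ι)
  have : CompactSpace ↥W.left := isCompact_iff_compactSpace.1 hV'c
  have hW : FibCat.IsFibGrpd (FibCat.overCat W).p := (isFibSetoid_overCat W).1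
  have hU : FibCat.IsFibGrpd (FibCat.overCat U).p := (isFibSetoid_overCat U).1
  have hx' : RepByAlgSpWith (AlgSp.LocP @Smooth) (BasedFunctor.comp (AlgSt.overMap k) x) :=
    repByAlgSpWith_smooth_comp hW hU _ x
      (repByAlgSpWith_overMap _ (stableBC_locP Groth.Agent.H50.goodClass_smooth) k
        (Groth.Agent.H50.goodClass_smooth.locP_yon_map k hk)) hx₁
  refine isQuasiCompact_of_compact_chart W (BasedFunctor.comp (AlgSt.overMap k) x) hx' ?_
  rw [← isSurjective_iff_repByAlgSpWith hW h𝒳.isStack.1 _ (RepByAlgSpWith.repByAlgSp1 hx')]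
  apply isSurjective_of_surjective_ofChart
  intro ξ
  obtain ⟨V, hVt, u, huV, rfl⟩ : ∃ V ∈ t, ∃ u ∈ ((V : U.left.affineOpens).1 : Set ↥U.left),
      Points.ofChart x u = ξ := by
    have := ht (Set.mem_univ ξ)
    simp only [Set.mem_iUnion] at this
    obtain ⟨V, hVt, u, huV, rfl⟩ := this
    exact ⟨V, hVt, u, huV, rfl⟩
  have huV' : u ∈ V' := by
    have : (V : U.left.affineOpens).1 ≤ V' := le_iSup₂ (f := fun V _ => (V : U.left.affineOpens).1) V hVt
    exact this huV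
  let v : ↥W.left := (⟨u, huV'⟩ : ↥V')
  refine ⟨v, ?_⟩
  rw [ofChart_overMap_comp]
  rfl

theorem isQuasiCompact_iff_compactSpace (h𝒳 : IsAlgStack Scheme.fppfPrecoverage 𝒳) :
    IsQuasiCompact 𝒳 ↔ CompactSpace (Points 𝒳) :=
  ⟨compactSpace_of_isQuasiCompact h𝒳, fun _ => isQuasiCompact_of_compactSpace h𝒳⟩

end Groth.Agent.H64.Pts

namespace Groth.Agent.H64.Pts

open AlgSt Groth.Agent.H32 Groth.Agent.H64 Groth.Agent.H64.Recog Groth.Agent.H64.FpRep
  Groth.Agent.H64.PTh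

variable {S : Scheme.{u}} {𝒳 : AlgSt.Cat S}

theorem isQuasiCompact_of_isSurjective {𝒰 : AlgSt.Cat S}
    (h𝒰 : IsAlgStack Scheme.fppfPrecoverage 𝒰) (h𝒳 : IsAlgStack Scheme.fppfPrecoverage 𝒳)
    (f : 𝒰 ⥤ᵇ 𝒳) (hf : IsSurjective f) (h𝒰' : IsQuasiCompact 𝒰) : IsQuasiCompact 𝒳 := by
  have := compactSpace_of_isQuasiCompact h𝒰 h𝒰'
  have hc := continuous_map h𝒳 f
  have : CompactSpace (Points 𝒳) := ⟨by
    rw [← Set.range_eq_univ.2 hf]
    exact isCompact_range hc⟩
  exact isQuasiCompact_of_compactSpace h𝒳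

theorem exists_isOpen_isCompact_nhd (h𝒳 : IsAlgStack Scheme.fppfPrecoverage 𝒳)
    (ξ : Points 𝒳) (W : Set (Points 𝒳)) (hW : IsOpen W) (hξ : ξ ∈ W) :
    ∃ V : Set (Points 𝒳), IsOpen V ∧ IsCompact V ∧ ξ ∈ V ∧ V ⊆ W := by
  obtain ⟨U, y, hy₁, hy₂⟩ := h𝒳.atlas
  obtain ⟨u, rfl⟩ := surjective_ofChart h𝒳.isStack.1 y hy₂ ξ
  have hc : Continuous (Points.ofChart y) := continuous_ofChart h𝒳 y
  have ho : IsOpenMap (Points.ofChart y) := isOpenMap_ofChart_of_smooth h𝒳.isStack.1 y hy₁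
  obtain ⟨_, ⟨V, hV, rfl⟩, huV, hVW⟩ := U.left.isBasis_affineOpens.exists_subset_of_mem_open
    (show u ∈ Points.ofChart y ⁻¹' W from hξ) (hW.preimage hc)
  refine ⟨Points.ofChart y '' (V : Set ↥U.left), ho _ V.2, hV.isCompact.image hc,
    ⟨u, huV, rfl⟩, ?_⟩
  rintro _ ⟨v, hv, rfl⟩
  exact hVW hv

end Groth.Agent.H64.Pts
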