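import Groth.Agent.H64.Pts.OpenSubIff
import Groth.Agent.H64.Psh.Cancel
import Groth.Agent.H65.AlgStEquivP
import Groth.Agent.H32.Diag

set_option autoImplicit false
universe u
open CategoryTheory CategoryTheory.Limits AlgebraicGeometry Opposite

/-! The open substack that is the image of an open subspace of a smooth chart. -/

namespace Groth.Agent.H64.Pts

open AlgSt Groth.Agent.H32 Groth.Agent.H64 Groth.Agent.H64.Recog Groth.Agent.H64.FpRep
  Groth.Agent.H64.PTh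

variable {S : Scheme.{u}} {𝒳 : AlgSt.Cat S}

instance subIncl_full (Q : 𝒳.obj → Prop) : (AlgSt.subIncl 𝒳 Q).toFunctor.Full :=
  (inferInstance : (ObjectProperty.ι Q).Full)

instance subIncl_faithful (Q : 𝒳.obj → Prop) : (AlgSt.subIncl 𝒳 Q).toFunctor.Faithful :=
  (inferInstance : (ObjectProperty.ι Q).Faithful)

/-- the image of a functor lies in the substack of its set of points -/
theorem ofSet_range_obj {𝒱 : AlgSt.Cat S} (h𝒱 : FibCat.IsFibGrpd 𝒱.p) (h𝒳 : FibCat.IsFibGrpd 𝒳.p)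
    (v : 𝒱 ⥤ᵇ 𝒳) (a : 𝒱.obj) : ofSet (Set.range (Points.map v)) (v.obj a) := by
  rintro p ⟨φ⟩
  obtain ⟨t, ψ, e, he⟩ := exists_lift_obj h𝒱 h𝒳 v a p.obj φ
  have ht : 𝒱.p.obj t = Over.mk p.str := by
    have h1 : 𝒳.p.obj (v.obj t) = 𝒳.p.obj p.obj := lift_domain_eq 𝒳.p he
    exact (v.w_obj t).symm.trans (h1.trans p.lies)
  refine ⟨Points.mk ⟨p.K, p.str, t, ht⟩, ?_⟩
  apply Points.sound
  exact ⟨_, 𝟙 _, e.hom, trivial⟩

/-- the corestriction of a functor to the substack of its set of points -/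
noncomputable def corestrict {𝒱 : AlgSt.Cat S} (h𝒱 : FibCat.IsFibGrpd 𝒱.p)
    (h𝒳 : FibCat.IsFibGrpd 𝒳.p) (v : 𝒱 ⥤ᵇ 𝒳) :
    𝒱 ⥤ᵇ AlgSt.fullSub 𝒳 (ofSet (Set.range (Points.map v))) :=
  subLiftFunctor (Q := ofSet (Set.range (Points.map v))) v (ofSet_range_obj h𝒱 h𝒳 v)

theorem corestrict_comp {𝒱 : AlgSt.Cat S} (h𝒱 : FibCat.IsFibGrpd 𝒱.p)
    (h𝒳 : FibCat.IsFibGrpd 𝒳.p) (v : 𝒱 ⥤ᵇ 𝒳) :
    BasedFunctor.comp (corestrict h𝒱 h𝒳 v) (AlgSt.subIncl 𝒳 _) = v := rfl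

theorem isSurjective_corestrict {𝒱 : AlgSt.Cat S} (h𝒱 : FibCat.IsFibGrpd 𝒱.p)
    (h𝒳 : FibCat.IsFibGrpd 𝒳.p) (v : 𝒱 ⥤ᵇ 𝒳) : IsSurjective (corestrict h𝒱 h𝒳 v) := by
  intro η
  have h1 : Points.map (AlgSt.subIncl 𝒳 (ofSet (Set.range (Points.map v)))) η ∈
      Set.range (Points.map v) := by
    have := range_map_subIncl_ofSet (Set.range (Points.map v))
    exact this.subset ⟨η, rfl⟩
  obtain ⟨ν, hν⟩ := h1
  refine ⟨ν, ?_⟩
  apply points_map_injective_of_full (isFibGrpd_fullSub_ofSet h𝒳 _) h𝒳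
    (AlgSt.subIncl 𝒳 (ofSet (Set.range (Points.map v))))
  rw [← map_comp]
  exact hν

theorem smooth_id (U : Over S) : AlgSp.LocP @Smooth (𝟙 ((AlgSp.yon S).obj U)) := by
  have h := Groth.Agent.H50.goodClass_smooth.locP_yon_map (𝟙 U)
    (inferInstance : Smooth (𝟙 U.left))
  rwa [CategoryTheory.Functor.map_id] at h

/-- the image of an open subspace of a smooth chart is an open substack with a smooth surjective
chart -/
theorem exists_isOpenImm_image (h𝒳 : IsAlgStack Scheme.fppfPrecoverage 𝒳) (U : AlgSp.Space S)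
    (u : ofSp U.obj ⥤ᵇ 𝒳) (hu₁ : RepByAlgSpWith (AlgSp.LocP @Smooth) u)
    (V : AlgSp.Space S) (j : V ⟶ U) (hj : AlgSp.RepWith @IsOpenImmersion j.hom) :
    ∃ (𝒴 : AlgSt.Cat S) (i : 𝒴 ⥤ᵇ 𝒳) (g : ofSp V.obj ⥤ᵇ 𝒴),
      IsAlgStack Scheme.fppfPrecoverage 𝒴 ∧ IsOpenImm i ∧
        RepByAlgSpWith (AlgSp.LocP @Smooth) g ∧ RepByAlgSpWith AlgSp.IsSurjectiveMor g ∧
          Nonempty (BasedFunctor.comp g i ≅ BasedFunctor.comp (ofSpMap j.hom) u) := by
  have hV : FibCat.IsFibGrpd (ofSp V.obj).p := Stk.isFibGrpd_ofPsh _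
  have hU : FibCat.IsFibGrpd (ofSp U.obj).p := Stk.isFibGrpd_ofPsh _
  have hX := h𝒳.isStack.1
  let v : ofSp V.obj ⥤ᵇ 𝒳 := BasedFunctor.comp (ofSpMap j.hom) u
  -- `v` is smooth
  have hjs : RepByAlgSpWith (AlgSp.LocP @Smooth) (ofSpMap j.hom) :=
    repByAlgSpWith_ofSpMap (stableBC_locP Groth.Agent.H50.goodClass_smooth) j
      (Groth.Agent.H50.goodClass_smooth.locP_of_repWith_etale j.hom
        (Groth.Agent.H49.repWith_of_le openImm_le_flat hj))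
  have hv : RepByAlgSpWith (AlgSp.LocP @Smooth) v := repByAlgSpWith_smooth_comp hV hU _ u hjs hu₁
  -- the image is open
  have hT : IsOpen (Set.range (Points.map v)) :=
    (isOpenMap_map_of_space hX V v (repByAlgSpWith_flat_of_smooth v hv)
      (repByAlgSpWith_lfp_of_smooth v hv)).isOpen_range
  have hQ := isOpenSubstack_ofSet h𝒳 _ hT
  have hY : FibCat.IsFibGrpd (AlgSt.fullSub 𝒳 (ofSet (Set.range (Points.map v)))).p :=
    isFibGrpd_fullSub_ofSet hX _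
  let g := corestrict hV hX v
  -- `g` is smooth by cancellation
  have hdiag : RepByAlgSpWith (AlgSp.LocP @Smooth)
      (FibCat.diag (AlgSt.subIncl 𝒳 (ofSet (Set.range (Points.map v))))) :=
    Groth.Agent.H65.AlgStEquivP.repByAlgSpWith_of_isEquivOver _ smooth_id _
      (isEquivOver_diag_of_fullyFaithful _)
  have hg : RepByAlgSpWith (AlgSp.LocP @Smooth) g :=
    repByAlgSpWith_cancel hV hY hX (stableBC_locP Groth.Agent.H50.goodClass_smooth)
      (fun _ _ _ _ hY' _ a b ha hb => Groth.Agent.H50.goodClass_smooth.locP_comp hY' a b ha hb)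
      isLocalOnBase_fppf_smooth g (AlgSt.subIncl 𝒳 _) hv hdiag
  refine ⟨_, AlgSt.subIncl 𝒳 (ofSet (Set.range (Points.map v))), g, hQ.2.1, hQ.2.2, hg, ?_,
    ⟨Iso.refl _⟩⟩
  rw [← isSurjective_iff_repByAlgSpWith hV hY g (RepByAlgSpWith.repByAlgSp1 hg)]
  exact isSurjective_corestrict hV hX v

end Groth.Agent.H64.Pts
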