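import Groth.Agent.H64.Pts.Compact
import Groth.Agent.H49.AlgSpDiagProps

set_option autoImplicit false
universe u w
open CategoryTheory CategoryTheory.Limits AlgebraicGeometry Opposite

/-! Flat and locally finitely presented morphisms of algebraic stacks are open on points; open
immersions. -/

namespace Groth.Agent.H64.Pts

open AlgSt Groth.Agent.H32 Groth.Agent.H64 Groth.Agent.H64.Recog Groth.Agent.H64.FpRep
  Groth.Agent.H64.PTh

variable {S : Scheme.{u}} {𝒳 𝒴 : AlgSt.Cat S}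

/-- a flat and locally finitely presented morphism from a category with a smooth surjective atlas
is open on points -/
theorem isOpenMap_map_of_flat_lfp (h𝒳 : FibCat.IsFibGrpd 𝒳.p) (h𝒴 : FibCat.IsFibGrpd 𝒴.p)
    (hat : HasAtlas (AlgSp.LocP @Smooth) 𝒴) (f : 𝒴 ⥤ᵇ 𝒳)
    (hf₁ : RepByAlgSpWith (AlgSp.LocP @Flat) f)
    (hf₂ : RepByAlgSpWith (AlgSp.LocP @LocallyOfFinitePresentation) f) :
    IsOpenMap (Points.map f) := by
  obtain ⟨V, y, hy₁, hy₂⟩ := hat
  have hV : FibCat.IsFibGrpd (FibCat.overCat V).p := (isFibSetoid_overCat V).1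
  intro A hA
  have hA' : IsOpen (Points.ofChart y ⁻¹' A) := hA V y hy₁
  have hopen : IsOpenMap (Points.ofChart (BasedFunctor.comp y f)) :=
    isOpenMap_ofChart h𝒳 _
      (repByAlgSpWith_flat_comp hV h𝒴 y f (repByAlgSpWith_flat_of_smooth y hy₁) hf₁)
      (repByAlgSpWith_lfp_comp hV h𝒴 y f (repByAlgSpWith_lfp_of_smooth y hy₁) hf₂)
  have : Points.map f '' A = Points.ofChart (BasedFunctor.comp y f) '' (Points.ofChart y ⁻¹' A) := by
    ext ξ
    constructor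
    · rintro ⟨η, hη, rfl⟩
      obtain ⟨t, rfl⟩ := surjective_ofChart h𝒴 y hy₂ η
      exact ⟨t, hη, rfl⟩
    · rintro ⟨t, ht, rfl⟩
      exact ⟨Points.ofChart y t, ht, rfl⟩
  rw [this]
  exact hopen _ hA'

theorem openImm_le_flat : (@IsOpenImmersion : MorphismProperty Scheme.{u}) ≤ @Etale :=
  fun _ _ g hg => by
    have : IsOpenImmersion g := hg
    exact (inferInstance : Etale g)

/-- an open immersion is flat -/
theorem repByAlgSpWith_flat_of_isOpenImm (f : 𝒴 ⥤ᵇ 𝒳) (hf : IsOpenImm f) :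
    RepByAlgSpWith (AlgSp.LocP @Flat) f :=
  repByAlgSpWith_mono_space (fun _ _ a ha =>
    Groth.Agent.H50.goodClass_flat.locP_of_repWith_etale a.hom
      (Groth.Agent.H49.repWith_of_le openImm_le_flat ha)) f hf

/-- an open immersion is locally of finite presentation -/
theorem repByAlgSpWith_lfp_of_isOpenImm (f : 𝒴 ⥤ᵇ 𝒳) (hf : IsOpenImm f) :
    RepByAlgSpWith (AlgSp.LocP @LocallyOfFinitePresentation) f :=
  repByAlgSpWith_mono_space (fun _ _ a ha =>
    Groth.Agent.H50.goodClass_lfp.locP_of_repWith_etale a.hom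
      (Groth.Agent.H49.repWith_of_le openImm_le_flat ha)) f hf

theorem isOpenMap_map_of_isOpenImm (h𝒳 : FibCat.IsFibGrpd 𝒳.p)
    (h𝒴 : IsAlgStack Scheme.fppfPrecoverage 𝒴) (f : 𝒴 ⥤ᵇ 𝒳) (hf : IsOpenImm f) :
    IsOpenMap (Points.map f) :=
  isOpenMap_map_of_flat_lfp h𝒳 h𝒴.isStack.1 h𝒴.atlas f (repByAlgSpWith_flat_of_isOpenImm f hf)
    (repByAlgSpWith_lfp_of_isOpenImm f hf)

/-- the points of an open substack form an open subset -/
theorem isOpen_range_subIncl (h𝒳 : FibCat.IsFibGrpd 𝒳.p) (Q : 𝒳.obj → Prop)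
    (hQ : IsOpenSubstack 𝒳 Q Scheme.fppfPrecoverage) :
    IsOpen (Set.range (Points.map (AlgSt.subIncl 𝒳 Q))) :=
  (isOpenMap_map_of_isOpenImm h𝒳 hQ.2.1 _ hQ.2.2).isOpen_range

theorem exists_finset_subcover (h𝒳 : IsAlgStack Scheme.fppfPrecoverage 𝒳) (Q' : 𝒳.obj → Prop)
    (hQ' : IsOpenSubstack 𝒳 Q' Scheme.fppfPrecoverage)
    (hqc : IsQuasiCompact (AlgSt.fullSub 𝒳 Q'))
    {ι : Type w} (Q : ι → 𝒳.obj → Prop)
    (hQ : ∀ i, IsOpenSubstack 𝒳 (Q i) Scheme.fppfPrecoverage)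
    (hcov : Set.range (Points.map (AlgSt.subIncl 𝒳 Q')) ⊆
      ⋃ i, Set.range (Points.map (AlgSt.subIncl 𝒳 (Q i)))) :
    ∃ I' : Finset ι, Set.range (Points.map (AlgSt.subIncl 𝒳 Q')) ⊆
      ⋃ i ∈ I', Set.range (Points.map (AlgSt.subIncl 𝒳 (Q i))) := by
  have := compactSpace_of_isQuasiCompact hQ'.2.1 hqc
  have hc : IsCompact (Set.range (Points.map (AlgSt.subIncl 𝒳 Q'))) :=
    isCompact_range (continuous_map h𝒳 _)
  exact hc.elim_finite_subcover _ (fun i => isOpen_range_subIncl h𝒳.isStack.1 (Q i) (hQ i)) hcov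

end Groth.Agent.H64.Pts
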