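import Groth.Agent.H64.Pts.Scheme
import Groth.Agent.H64.Psh.SmoothLoc
import Groth.Agent.H64.Psh.PCompare

set_option autoImplicit false
universe u
open CategoryTheory CategoryTheory.Limits AlgebraicGeometry Opposite

/-! Two charts of a category over `(Sch/S)` compared through a presentation of their 2-fibre
product. -/

namespace Groth.Agent.H64.Pts

open AlgSt Groth.Agent.H32 Groth.Agent.H64 Groth.Agent.H64.Recog Groth.Agent.H64.FpRep
  Groth.Agent.H64.PTh

variable {S : Scheme.{u}} {𝒳 : AlgSt.Cat S}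

/-- the first projection of a presentation of `U' ×_𝒳 U`, on points -/
noncomputable def prα {U U' : Over S} (x : FibCat.overCat U ⥤ᵇ 𝒳) (x' : FibCat.overCat U' ⥤ᵇ 𝒳)
    {F : AlgSp.Sp S} (e : ofSp F ⥤ᵇ FibCat.fp x' x) (r : AlgSp.Points F) : ↥U'.left :=
  AlgSp.Points.toScheme U'
    (AlgSp.Points.map (spMapOfOver (BasedFunctor.comp e (FibCat.fpFst x' x))) r)

/-- the second projection of a presentation of `U' ×_𝒳 U`, on points -/
noncomputable def prβ {U U' : Over S} (x : FibCat.overCat U ⥤ᵇ 𝒳) (x' : FibCat.overCat U' ⥤ᵇ 𝒳)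
    {F : AlgSp.Sp S} (e : ofSp F ⥤ᵇ FibCat.fp x' x) (r : AlgSp.Points F) : ↥U.left :=
  AlgSp.Points.toScheme U
    (AlgSp.Points.map (spMapOfOver (BasedFunctor.comp e (FibCat.fpSnd x' x))) r)

theorem continuous_toScheme (U : Over S) : Continuous (AlgSp.Points.toScheme U) :=
  (AlgSp.Points.schemeHomeo U).symm.continuous

theorem continuous_prα {U U' : Over S} (x : FibCat.overCat U ⥤ᵇ 𝒳) (x' : FibCat.overCat U' ⥤ᵇ 𝒳)
    {F : AlgSp.Sp S} (e : ofSp F ⥤ᵇ FibCat.fp x' x) : Continuous (prα x x' e) :=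
  (continuous_toScheme U').comp (AlgSp.Points.continuous_map _)

theorem continuous_prβ {U U' : Over S} (x : FibCat.overCat U ⥤ᵇ 𝒳) (x' : FibCat.overCat U' ⥤ᵇ 𝒳)
    {F : AlgSp.Sp S} (e : ofSp F ⥤ᵇ FibCat.fp x' x) : Continuous (prβ x x' e) :=
  (continuous_toScheme U).comp (AlgSp.Points.continuous_map _)

/-- (K1) the two projections of the fibre product of two charts have the same image in `|𝒳|` -/
theorem ofChart_prα {U U' : Over S} (x : FibCat.overCat U ⥤ᵇ 𝒳) (x' : FibCat.overCat U' ⥤ᵇ 𝒳)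
    {F : AlgSp.Sp S} (e : ofSp F ⥤ᵇ FibCat.fp x' x) (r : AlgSp.Points F) :
    Points.ofChart x' (prα x x' e r) = Points.ofChart x (prβ x x' e r) := by
  rw [ofChart_eq x', ofChart_eq x]
  unfold prα prβ
  rw [← map_σ_eq_ptU, ← map_σ_eq_ptU, ← map_comp, ← map_comp]
  exact map_eq_of_hom (bwlIso e (FibCat.fpIso x' x)).hom _

/-- (K2) two points of charts with the same image in `|𝒳|` come from a point of the fibre
product -/
theorem exists_pr_of_ofChart_eq (h𝒳 : FibCat.IsFibGrpd 𝒳.p) {U U' : Over S}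
    (x : FibCat.overCat U ⥤ᵇ 𝒳) (x' : FibCat.overCat U' ⥤ᵇ 𝒳)
    {F : AlgSp.Sp S} (e : ofSp F ⥤ᵇ FibCat.fp x' x) (he : FibCat.IsEquivOver e)
    (u' : ↥U'.left) (t : ↥U.left) (h : Points.ofChart x' u' = Points.ofChart x t) :
    ∃ r : AlgSp.Points F, prα x x' e r = u' ∧ prβ x x' e r = t := by
  rw [ofChart_eq x', ofChart_eq x] at h
  obtain ⟨w, hw1, hw2⟩ := exists_points_fp_of_map_eq (isFibSetoid_overCat U).1 h𝒳
    (isFibSetoid_overCat U').1 x x' (ptU U' u') (ptU U t) h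
  obtain ⟨s, rfl⟩ := (map_bijective_of_isEquivOver he).2 w
  obtain ⟨r, rfl⟩ := (σ_bijective (F := F)).2 s
  refine ⟨r, ?_, ?_⟩
  · apply (ptU_bijective U').1
    unfold prα
    rw [← map_σ_eq_ptU, map_comp]
    exact hw1
  · apply (ptU_bijective U).1
    unfold prβ
    rw [← map_σ_eq_ptU, map_comp]
    exact hw2

end Groth.Agent.H64.Pts
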