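import Groth.Agent.H64.Pts.Homeo
import Groth.Agent.H64.Pts.Compact

set_option autoImplicit false
universe u
open CategoryTheory CategoryTheory.Limits AlgebraicGeometry Opposite

/-! A chart of the target of a morphism representable by algebraic spaces, and the induced square
on points. -/

namespace Groth.Agent.H64.Pts

open AlgSt Groth.Agent.H32 Groth.Agent.H64 Groth.Agent.H64.Recog Groth.Agent.H64.FpRep
  Groth.Agent.H64.PTh

variable {S : Scheme.{u}} {𝒲 𝒳 : AlgSt.Cat S}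

/-- the chart `U' → 𝒳` on the points of `h_{U'}` -/
noncomputable def chartP {U' : Over S} (x' : FibCat.overCat U' ⥤ᵇ 𝒳)
    (s : AlgSp.Points ((AlgSp.yon S).obj U')) : Points 𝒳 :=
  Points.ofChart x' (AlgSp.Points.toScheme U' s)

/-- the first projection of a presentation of `U' ×_𝒳 𝒲`, on points -/
noncomputable def mrα {U' : Over S} (φ : 𝒲 ⥤ᵇ 𝒳) (x' : FibCat.overCat U' ⥤ᵇ 𝒳)
    {F : AlgSp.Sp S} (e : ofSp F ⥤ᵇ FibCat.fp x' φ) (r : AlgSp.Points F) :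
    AlgSp.Points ((AlgSp.yon S).obj U') :=
  AlgSp.Points.map (spMapOfOver (BasedFunctor.comp e (FibCat.fpFst x' φ))) r

/-- the second projection of a presentation of `U' ×_𝒳 𝒲`, on points -/
noncomputable def mrβ {U' : Over S} (φ : 𝒲 ⥤ᵇ 𝒳) (x' : FibCat.overCat U' ⥤ᵇ 𝒳)
    {F : AlgSp.Sp S} (e : ofSp F ⥤ᵇ FibCat.fp x' φ) (r : AlgSp.Points F) : Points 𝒲 :=
  Points.map (BasedFunctor.comp e (FibCat.fpSnd x' φ)) (σ F r)

theorem chartP_mrα {U' : Over S} (φ : 𝒲 ⥤ᵇ 𝒳) (x' : FibCat.overCat U' ⥤ᵇ 𝒳)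
    {F : AlgSp.Sp S} (e : ofSp F ⥤ᵇ FibCat.fp x' φ) (r : AlgSp.Points F) :
    chartP x' (mrα φ x' e r) = Points.map φ (mrβ φ x' e r) := by
  unfold chartP mrα mrβ
  rw [ofChart_eq x', ← map_σ_eq_ptU, ← map_comp, ← map_comp]
  exact map_eq_of_hom (bwlIso e (FibCat.fpIso x' φ)).hom _

theorem exists_mr_of_chartP_eq (h𝒲 : FibCat.IsFibGrpd 𝒲.p) (h𝒳 : FibCat.IsFibGrpd 𝒳.p)
    {U' : Over S} (φ : 𝒲 ⥤ᵇ 𝒳) (x' : FibCat.overCat U' ⥤ᵇ 𝒳)
    {F : AlgSp.Sp S} (e : ofSp F ⥤ᵇ FibCat.fp x' φ) (he : FibCat.IsEquivOver e)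
    (s : AlgSp.Points ((AlgSp.yon S).obj U')) (ω : Points 𝒲)
    (h : chartP x' s = Points.map φ ω) :
    ∃ r : AlgSp.Points F, mrα φ x' e r = s ∧ mrβ φ x' e r = ω := by
  unfold chartP at h
  rw [ofChart_eq x'] at h
  obtain ⟨w, hw1, hw2⟩ := exists_points_fp_of_map_eq h𝒲 h𝒳
    (isFibSetoid_overCat U').1 φ x' (ptU U' (AlgSp.Points.toScheme U' s)) ω h
  obtain ⟨t, rfl⟩ := (map_bijective_of_isEquivOver he).2 w
  obtain ⟨r, rfl⟩ := (σ_bijective (F := F)).2 t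
  refine ⟨r, ?_, ?_⟩
  · apply (toScheme_bijective U').1
    apply (ptU_bijective U').1
    unfold mrα
    rw [← map_σ_eq_ptU, map_comp]
    exact hw1
  · unfold mrβ
    rw [map_comp]
    exact hw2

theorem isHomeomorph_toScheme (U : Over S) : IsHomeomorph (AlgSp.Points.toScheme U) :=
  (AlgSp.Points.schemeHomeo U).symm.isHomeomorph

theorem continuous_chartP (h𝒳 : IsAlgStack Scheme.fppfPrecoverage 𝒳) {U' : Over S}
    (x' : FibCat.overCat U' ⥤ᵇ 𝒳) : Continuous (chartP x') :=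
  (continuous_ofChart h𝒳 x').comp (continuous_toScheme U')

theorem isOpenMap_chartP (h𝒳 : FibCat.IsFibGrpd 𝒳.p) {U' : Over S}
    (x' : FibCat.overCat U' ⥤ᵇ 𝒳) (hx' : RepByAlgSpWith (AlgSp.LocP @Smooth) x') :
    IsOpenMap (chartP x') :=
  (isOpenMap_ofChart_of_smooth h𝒳 x' hx').comp (isHomeomorph_toScheme U').isOpenMap

theorem surjective_chartP (h𝒳 : FibCat.IsFibGrpd 𝒳.p) {U' : Over S}
    (x' : FibCat.overCat U' ⥤ᵇ 𝒳) (hx' : RepByAlgSpWith AlgSp.IsSurjectiveMor x') :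
    Function.Surjective (chartP x') :=
  (surjective_ofChart h𝒳 x' hx').comp (toScheme_bijective U').2

end Groth.Agent.H64.Pts
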