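import Groth.Agent.H64.Pts.OpenSubIff
import Groth.Agent.H64.Psh.PDescent2
import Groth.Agent.H64.Psh.PCompInst
import Groth.Agent.H64.Psh.RepSch
import Groth.Agent.H65.AlgStEquivP
import Groth.Agent.S10532

set_option autoImplicit false
universe u
open CategoryTheory CategoryTheory.Limits AlgebraicGeometry Opposite

/-! A closed substack of a reduced algebraic stack with all the points is everything. -/

namespace Groth.Agent.H64.Pts

open AlgSt Groth.Agent.H32 Groth.Agent.H64 Groth.Agent.H64.Recog Groth.Agent.H64.FpRep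
  Groth.Agent.H64.PTh

variable {S : Scheme.{u}} {𝒳 : AlgSt.Cat S}

/-- an object whose base change of the inclusion of a strictly full subcategory has a section lies
in the subcategory -/
theorem prop_of_section (Q : 𝒳.obj → Prop) [ObjectProperty.IsClosedUnderIsomorphisms Q]
    {y : 𝒳.obj} {Y : Over S} (ŷ : FibCat.overCat Y ⥤ᵇ 𝒳) (i : ŷ.obj (ovT Y) ≅ y)
    {F : AlgSp.Sp S} (e : ofSp F ⥤ᵇ FibCat.fp ŷ (AlgSt.subIncl 𝒳 Q))
    (a : (AlgSp.yon S).obj Y ⟶ F)
    (haw : a ≫ spMapOfOver (BasedFunctor.comp e (FibCat.fpFst ŷ (AlgSt.subIncl 𝒳 Q))) = 𝟙 _) :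
    Q y := by
  obtain ⟨β⟩ := nonempty_iso_ofSpMap_spMapOfOver
    (BasedFunctor.comp e (FibCat.fpFst ŷ (AlgSt.subIncl 𝒳 Q)))
  have α : BasedFunctor.comp (ofSpMap (spMapOfOver
      (BasedFunctor.comp e (FibCat.fpFst ŷ (AlgSt.subIncl 𝒳 Q))))) (toOverCat Y) ≅
      BasedFunctor.comp e (FibCat.fpFst ŷ (AlgSt.subIncl 𝒳 Q)) := bwrIso β (toOverCat Y)
  let G : FibCat.overCat Y ⥤ᵇ FibCat.fp ŷ (AlgSt.subIncl 𝒳 Q) :=
    BasedFunctor.comp (BasedFunctor.comp (ofOverCat Y) (ofSpMap a)) e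
  have hG : BasedFunctor.comp (BasedFunctor.comp (ofOverCat Y) (ofSpMap a))
      (BasedFunctor.comp (ofSpMap (spMapOfOver
        (BasedFunctor.comp e (FibCat.fpFst ŷ (AlgSt.subIncl 𝒳 Q))))) (toOverCat Y)) =
      BasedFunctor.id _ := by
    have h1 : BasedFunctor.comp (BasedFunctor.comp (ofOverCat Y) (ofSpMap a))
        (BasedFunctor.comp (ofSpMap (spMapOfOver
          (BasedFunctor.comp e (FibCat.fpFst ŷ (AlgSt.subIncl 𝒳 Q))))) (toOverCat Y)) =
        BasedFunctor.comp (ofOverCat Y) (BasedFunctor.comp (ofSpMap (a ≫ spMapOfOver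
          (BasedFunctor.comp e (FibCat.fpFst ŷ (AlgSt.subIncl 𝒳 Q))))) (toOverCat Y)) := rfl
    rw [h1, haw]
    rfl
  have γ : BasedFunctor.comp G (FibCat.fpFst ŷ (AlgSt.subIncl 𝒳 Q)) ≅ BasedFunctor.id _ :=
    (bwlIso (BasedFunctor.comp (ofOverCat Y) (ofSpMap a)) α.symm) ≪≫ eqToIso hG
  let ζ := G.obj (ovT Y)
  have e1 : ζ.obj.fst ≅ ovT Y := bappIso γ (ovT Y)
  have e2 : ŷ.obj ζ.obj.fst ≅ ŷ.obj (ovT Y) := ŷ.toFunctor.mapIso e1
  have e3 : ŷ.obj ζ.obj.fst ≅ ζ.obj.snd.obj := ζ.obj.iso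
  exact ObjectProperty.prop_of_iso Q (e3.symm ≪≫ e2 ≪≫ i) ζ.obj.snd.property

/-- a surjective closed immersion into a reduced scheme is an isomorphism -/
theorem isIso_of_repWith_isClosedImmersion_of_surj {W : AlgSp.Sp S} {T : Over S}
    (w : W ⟶ (AlgSp.yon S).obj T) (hw : AlgSp.RepWith @IsClosedImmersion w)
    [IsReduced T.left] (h : AlgSp.IsSurjectiveMor w) : IsIso w := by
  have sq := hw.rep.isPullback (𝟙 ((AlgSp.yon S).obj T))
  have hci : IsClosedImmersion (hw.rep.snd (𝟙 ((AlgSp.yon S).obj T))).left :=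
    hw.property_snd (𝟙 _)
  have hsurj : Surjective (hw.rep.snd (𝟙 ((AlgSp.yon S).obj T))).left := by
    refine ⟨fun t => ?_⟩
    obtain ⟨q, hq⟩ := h (AlgSp.Points.schemeHomeo T t)
    have hq' : AlgSp.Points.map w q =
        AlgSp.Points.map (𝟙 ((AlgSp.yon S).obj T)) (AlgSp.Points.schemeHomeo T t) := by
      rw [hq, AlgSp.Points.map_id]
    obtain ⟨z, -, hz⟩ := Groth.Agent.H50.points_exists_of_isPullback sq q
      (AlgSp.Points.schemeHomeo T t) hq'
    obtain ⟨v, rfl⟩ := (AlgSp.Points.schemeHomeo (hw.rep.pullback (𝟙 _))).surjective z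
    rw [AlgSp.Points.map_yon_map_apply] at hz
    exact ⟨v, (AlgSp.Points.schemeHomeo T).injective hz⟩
  have hiso : IsIso (hw.rep.snd (𝟙 ((AlgSp.yon S).obj T))).left :=
    isIso_of_isClosedImmersion_of_surjective _
  have hiso' : IsIso (hw.rep.snd (𝟙 ((AlgSp.yon S).obj T))) := by
    have : IsIso ((Over.forget S).map (hw.rep.snd (𝟙 ((AlgSp.yon S).obj T)))) := hiso
    exact isIso_of_reflects_iso _ (Over.forget S)
  have hfst : IsIso (hw.rep.fst (𝟙 ((AlgSp.yon S).obj T))) := sq.isIso_fst_of_isIso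
  have hw' : w = inv (hw.rep.fst (𝟙 ((AlgSp.yon S).obj T))) ≫
      (AlgSp.yon S).map (hw.rep.snd (𝟙 ((AlgSp.yon S).obj T))) := by
    rw [IsIso.eq_inv_comp, sq.w, Category.comp_id]
  rw [hw']
  infer_instance

/-- the inclusion of a closed substack with all the points of a reduced algebraic stack is
representable by isomorphisms -/
theorem repByAlgSpWith_iso_subIncl (h𝒳 : IsAlgStack Scheme.fppfPrecoverage 𝒳)
    (hred : AlgSt.SmoothLocally (fun X => IsReduced X) 𝒳) (Q : 𝒳.obj → Prop)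
    (hQ : IsClosedSubstack 𝒳 Q Scheme.fppfPrecoverage)
    (hpts : Set.range (Points.map (AlgSt.subIncl 𝒳 Q)) = Set.univ) :
    RepByAlgSpWith (MorphismProperty.isomorphisms (AlgSp.Sp S)) (AlgSt.subIncl 𝒳 Q) := by
  have := hQ.1
  have hfib : FibCat.IsFibGrpd (AlgSt.fullSub 𝒳 Q).p := hQ.2.1.isStack.1
  obtain ⟨U, x, hx1, hx2⟩ := h𝒳.atlas
  have hU : FibCat.IsFibGrpd (FibCat.overCat U).p := (isFibSetoid_overCat U).1
  have hUred : IsReduced U.left := hred U x hx1
  -- the base change to the atlas is an equivalence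
  have h' : RepByAlgSpWith (MorphismProperty.isomorphisms (AlgSp.Sp S))
      (FibCat.fpFst x (AlgSt.subIncl 𝒳 Q)) := by
    obtain ⟨F, e, he, hw⟩ := hQ.2.2 U x
    have hsurj : Function.Surjective (Points.map
        (BasedFunctor.comp e (FibCat.fpFst x (AlgSt.subIncl 𝒳 Q)))) := by
      intro s
      obtain ⟨t, rfl⟩ := (ptU_bijective U).2 s
      obtain ⟨η, hη⟩ : Points.ofChart x t ∈ Set.range (Points.map (AlgSt.subIncl 𝒳 Q)) := by
        rw [hpts]; trivial
      obtain ⟨w₀, hw₀, -⟩ := exists_points_fp_of_map_eq hfib h𝒳.isStack.1 hU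
        (AlgSt.subIncl 𝒳 Q) x (ptU U t) η hη.symm
      obtain ⟨r, rfl⟩ := (map_bijective_of_isEquivOver he).2 w₀
      exact ⟨r, by rw [map_comp]; exact hw₀⟩
    have hsurj' := (surjective_map_iff_isSurjectiveMor _).1 hsurj
    have hiso : IsIso (spMapOfOver
        (BasedFunctor.comp e (FibCat.fpFst x (AlgSt.subIncl 𝒳 Q)))) :=
      isIso_of_repWith_isClosedImmersion_of_surj _ hw hsurj'
    obtain ⟨β⟩ := nonempty_iso_ofSpMap_spMapOfOver
      (BasedFunctor.comp e (FibCat.fpFst x (AlgSt.subIncl 𝒳 Q)))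
    have α : BasedFunctor.comp (ofSpMap (spMapOfOver
        (BasedFunctor.comp e (FibCat.fpFst x (AlgSt.subIncl 𝒳 Q))))) (toOverCat U) ≅
        BasedFunctor.comp e (FibCat.fpFst x (AlgSt.subIncl 𝒳 Q)) := bwrIso β (toOverCat U)
    have h1 : FibCat.IsEquivOver (BasedFunctor.comp (ofSpMap (spMapOfOver
        (BasedFunctor.comp e (FibCat.fpFst x (AlgSt.subIncl 𝒳 Q))))) (toOverCat U)) :=
      isEquivOver_comp (isEquivOver_ofSpMap_of_isIso _) (isEquivOver_toOverCat U)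
    have h2 : RepByAlgSpWith (MorphismProperty.isomorphisms (AlgSp.Sp S))
        (BasedFunctor.comp (ofSpMap (spMapOfOver
          (BasedFunctor.comp e (FibCat.fpFst x (AlgSt.subIncl 𝒳 Q))))) (toOverCat U)) :=
      Groth.Agent.H65.AlgStEquivP.repByAlgSpWith_of_isEquivOver _
        (fun V => (inferInstance : IsIso (𝟙 ((AlgSp.yon S).obj V)))) _ h1
    exact repByAlgSpWith_of_square' _ (FibCat.fpFst x (AlgSt.subIncl 𝒳 Q)) _ e
      (BasedFunctor.id _) he (isEquivOver_id _) α h2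
  have hxf : RepByAlgSpWith (AlgSp.LocP @Flat) x :=
    repByAlgSpWith_locP_mono (fun _ _ g hg => by
      have : Smooth g := hg; exact (inferInstance : Flat g)) x hx1
  have hxp : RepByAlgSpWith (AlgSp.LocP @LocallyOfFinitePresentation) x :=
    repByAlgSpWith_locP_mono (fun _ _ g hg => by
      have : Smooth g := hg; exact (inferInstance : LocallyOfFinitePresentation g)) x hx1
  exact repByAlgSpWith_of_fpFst_fppf hfib h𝒳.isStack.1 hU
    (stableBC_of_inst (MorphismProperty.isomorphisms (AlgSp.Sp S)))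
    (isLocalOnBase_fppf_of_fpqc (Groth.Agent.S10532.result S))
    (AlgSt.subIncl 𝒳 Q) (RepByAlgSpWith.repByAlgSp1 hQ.2.2) x hxf hxp hx2 h'

/-- a closed substack of a reduced algebraic stack with all the points is everything -/
theorem prop_of_isClosedSubstack_of_reduced (h𝒳 : IsAlgStack Scheme.fppfPrecoverage 𝒳)
    (hred : AlgSt.SmoothLocally (fun X => IsReduced X) 𝒳) (Q : 𝒳.obj → Prop)
    (hQ : IsClosedSubstack 𝒳 Q Scheme.fppfPrecoverage)
    (hpts : Set.range (Points.map (AlgSt.subIncl 𝒳 Q)) = Set.univ) (y : 𝒳.obj) : Q y := by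
  have := hQ.1
  let Y : Over S := 𝒳.p.obj y
  obtain ⟨ŷ, i, -⟩ := exists_yoneda h𝒳.isStack.1 y (rfl : 𝒳.p.obj y = Y)
  obtain ⟨F, e, he, hw⟩ := repByAlgSpWith_iso_subIncl h𝒳 hred Q hQ hpts Y ŷ
  have hw' : IsIso (spMapOfOver
      (BasedFunctor.comp e (FibCat.fpFst ŷ (AlgSt.subIncl 𝒳 Q)))) := hw
  exact prop_of_section Q ŷ i e (inv (spMapOfOver
      (BasedFunctor.comp e (FibCat.fpFst ŷ (AlgSt.subIncl 𝒳 Q))))) (IsIso.inv_hom_id _)

end Groth.Agent.H64.Pts
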