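import Groth.Agent.H64.Pts.ClosedRed
import Groth.Agent.H64.Psh.AlgStackRep
import Groth.Agent.H64.DiagBCAlg
import Groth.Agent.H64.FPtFp

set_option autoImplicit false
universe u
open CategoryTheory CategoryTheory.Limits AlgebraicGeometry Opposite

/-! Pullback of closed substacks, and factoring through a closed substack for reduced sources. -/

namespace Groth.Agent.H64.Pts

open AlgSt Groth.Agent.H32 Groth.Agent.H64 Groth.Agent.H64.Recog Groth.Agent.H64.FpRep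
  Groth.Agent.H64.PTh

variable {S : Scheme.{u}} {𝒳 𝒴 : AlgSt.Cat S}

/-- the preimage of a closed substack is a closed substack -/
theorem isClosedSubstack_pb (h𝒳 : IsAlgStack Scheme.fppfPrecoverage 𝒳)
    (h𝒴 : IsAlgStack Scheme.fppfPrecoverage 𝒴) (Q : 𝒳.obj → Prop)
    (hQ : IsClosedSubstack 𝒳 Q Scheme.fppfPrecoverage) (f : 𝒴 ⥤ᵇ 𝒳) :
    IsClosedSubstack 𝒴 (fun y => Q (f.obj y)) Scheme.fppfPrecoverage := by
  have := hQ.1
  have hfib : FibCat.IsFibGrpd (AlgSt.fullSub 𝒳 Q).p := hQ.2.1.isStack.1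
  have hcl : ObjectProperty.IsClosedUnderIsomorphisms (fun y : 𝒴.obj => Q (f.obj y)) :=
    ⟨fun e h => ObjectProperty.prop_of_iso Q (f.toFunctor.mapIso e) h⟩
  have hfib' : FibCat.IsFibGrpd (AlgSt.fullSub 𝒴 (fun y => Q (f.obj y))).p :=
    isFibGrpd_subCat (Q := fun y : 𝒴.obj => Q (f.obj y)) h𝒴.isStack.1
      (fun _ _ φ h => prop_of_hom h𝒳.isStack.1 Q hfib (f.map φ) h)
  have hci : IsClosedImm (AlgSt.subIncl 𝒴 (fun y => Q (f.obj y))) := by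
    have h1 : RepByAlgSpWith (AlgSp.RepWith @IsClosedImmersion)
        (FibCat.fpFst f (AlgSt.subIncl 𝒳 Q)) :=
      repByAlgSpWith_fpFst _ (AlgSt.subIncl 𝒳 Q) f hQ.2.2
    exact repByAlgSpWith_of_square _ (FibCat.fpFst f (AlgSt.subIncl 𝒳 Q))
      (AlgSt.subIncl 𝒴 (fun y => Q (f.obj y))) (subFp (𝒳 := 𝒳) Q f) (BasedFunctor.id _)
      (isEquivOver_subFp (𝒳 := 𝒳) Q f) (isEquivOver_id _) (Iso.refl _) h1
  exact ⟨hcl, isAlgStack_of_repByAlgSp1 hfib' h𝒴 _ (RepByAlgSpWith.repByAlgSp1 hci), hci⟩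

/-- the points of the preimage of a substack -/
theorem range_map_subIncl_pb (h𝒳 : FibCat.IsFibGrpd 𝒳.p) (h𝒴 : FibCat.IsFibGrpd 𝒴.p)
    (Q : 𝒳.obj → Prop) [ObjectProperty.IsClosedUnderIsomorphisms Q]
    (hfib : FibCat.IsFibGrpd (AlgSt.fullSub 𝒳 Q).p) (f : 𝒴 ⥤ᵇ 𝒳)
    (h : Set.range (Points.map f) ⊆ Set.range (Points.map (AlgSt.subIncl 𝒳 Q))) :
    Set.range (Points.map (AlgSt.subIncl 𝒴 (fun y => Q (f.obj y)))) = Set.univ := by
  apply Set.eq_univ_of_forall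
  intro p
  obtain ⟨η, hη⟩ := h ⟨p, rfl⟩
  obtain ⟨w, hw, -⟩ := exists_points_fp_of_map_eq hfib h𝒳 h𝒴 (AlgSt.subIncl 𝒳 Q) f p η hη.symm
  obtain ⟨r, rfl⟩ := (map_bijective_of_isEquivOver (isEquivOver_subFp (𝒳 := 𝒳) Q f)).2 w
  refine ⟨r, ?_⟩
  exact (map_comp (subFp (𝒳 := 𝒳) Q f) (FibCat.fpFst f (AlgSt.subIncl 𝒳 Q)) r).trans hw

/-- a morphism from a reduced algebraic stack factors through a closed substack as soon as it does
so on points -/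
theorem prop_map_of_range_subset (h𝒳 : IsAlgStack Scheme.fppfPrecoverage 𝒳)
    (h𝒴 : IsAlgStack Scheme.fppfPrecoverage 𝒴)
    (hred : AlgSt.SmoothLocally (fun X => IsReduced X) 𝒴) (Q : 𝒳.obj → Prop)
    (hQ : IsClosedSubstack 𝒳 Q Scheme.fppfPrecoverage) (f : 𝒴 ⥤ᵇ 𝒳)
    (h : Set.range (Points.map f) ⊆ Set.range (Points.map (AlgSt.subIncl 𝒳 Q))) (y : 𝒴.obj) :
    Q (f.obj y) := by
  have := hQ.1
  exact prop_of_isClosedSubstack_of_reduced h𝒴 hred (fun y => Q (f.obj y))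
    (isClosedSubstack_pb h𝒳 h𝒴 Q hQ f)
    (range_map_subIncl_pb h𝒳.isStack.1 h𝒴.isStack.1 Q hQ.2.1.isStack.1 f h) y

/-- a morphism factoring through a substack does so on points -/
theorem range_subset_of_prop_map (Q : 𝒳.obj → Prop) (f : 𝒴 ⥤ᵇ 𝒳)
    (h : ∀ y : 𝒴.obj, Q (f.obj y)) :
    Set.range (Points.map f) ⊆ Set.range (Points.map (AlgSt.subIncl 𝒳 Q)) := by
  rintro _ ⟨η, rfl⟩
  obtain ⟨p, rfl⟩ := Points.mk_surjective η
  exact ⟨Points.mk ⟨p.K, p.str, ⟨f.obj p.obj, h _⟩, (f.w_obj p.obj).trans p.lies⟩, rfl⟩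

end Groth.Agent.H64.Pts
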