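import Groth.Agent.H64.Pts.Basic
import Groth.Agent.H64.Stk.FpStack

set_option autoImplicit false
universe u
open CategoryTheory CategoryTheory.Limits AlgebraicGeometry Opposite

/-! Surjectivity of the diagonal of a morphism of stacks and lifting of 2-arrows at geometric
points. -/

namespace Groth.Agent.H64.Pts

open AlgSt Groth.Agent.H32 Groth.Agent.H64

variable {S : Scheme.{u}} {𝒳 𝒴 : AlgSt.Cat S}

/-- if 2-arrows between images of geometric points lift, the diagonal is surjective on points -/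
theorem isSurjective_diag_of_lift (h𝒳 : FibCat.IsFibGrpd 𝒳.p) (h𝒴 : FibCat.IsFibGrpd 𝒴.p)
    (f : 𝒳 ⥤ᵇ 𝒴)
    (h : ∀ (k : Type u) [Field k] [IsAlgClosed k] (s : Spec (CommRingCat.of k) ⟶ S) (a₁ a₂ : 𝒳.obj)
        (_ : 𝒳.p.obj a₁ = Over.mk s) (_ : 𝒳.p.obj a₂ = Over.mk s) (β : f.obj a₁ ⟶ f.obj a₂),
        𝒴.p.IsHomLift (𝟙 (Over.mk s)) β →
          ∃ α : a₁ ⟶ a₂, 𝒳.p.IsHomLift (𝟙 (Over.mk s)) α ∧ f.map α = β) :
    AlgSt.IsSurjective (FibCat.diag f) := by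
  intro η
  obtain ⟨p, rfl⟩ := Points.mk_surjective η
  have hfp : FibCat.IsFibGrpd (FibCat.fp f f).p := isFibGrpd_fp _ _ h𝒳 h𝒳 h𝒴
  -- pass to an algebraic closure
  let k : Type u := AlgebraicClosure p.K
  let m : Spec (CommRingCat.of k) ⟶ Spec (CommRingCat.of p.K) :=
    Spec.map (CommRingCat.ofHom (algebraMap p.K k))
  let sk : Spec (CommRingCat.of k) ⟶ S := m ≫ p.str
  let b : Over.mk sk ⟶ (FibCat.fp f f).p.obj p.obj := (Over.homMk m rfl : Over.mk sk ⟶ Over.mk p.str) ≫ eqToHom p.lies.symm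
  obtain ⟨t, ψ, hψ⟩ := hfp.exists_lift (x := p.obj) b
  have ht : (FibCat.fp f f).p.obj t = Over.mk sk := lift_domain_eq (FibCat.fp f f).p hψ
  have h1 : 𝒳.p.obj t.obj.fst = Over.mk sk := ht
  have h2 : 𝒳.p.obj t.obj.snd = Over.mk sk := ((FibCat.fpSnd f f).w_obj t).trans ht
  have hβ : 𝒴.p.IsHomLift (𝟙 (Over.mk sk)) t.obj.iso.hom := lift_id_congr 𝒴.p t.property h1
  obtain ⟨α, hα, hfα⟩ := h k sk t.obj.fst t.obj.snd h1 h2 t.obj.iso.hom hβ
  let q : FPt 𝒳 := ⟨k, sk, t.obj.fst, h1⟩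
  refine ⟨Points.mk q, ?_⟩
  let r : FPt (FibCat.fp f f) := ⟨k, sk, t, ht⟩
  have e1 : Points.mk r = Points.mk p := Points.sound ⟨r, 𝟙 _, ψ, trivial⟩
  have c : (FibCat.diag f).obj t.obj.fst ⟶ t :=
    ObjectProperty.homMk
      { fst := 𝟙 _
        snd := α
        w := by
          show f.map (𝟙 _) ≫ t.obj.iso.hom = 𝟙 _ ≫ f.map α
          rw [f.toFunctor.map_id, Category.id_comp, Category.id_comp, hfα] }
  have e2 : Points.mk (q.map (FibCat.diag f)) = Points.mk r :=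
    Points.sound ⟨q.map (FibCat.diag f), 𝟙 _, c, trivial⟩
  exact e2.trans e1

end Groth.Agent.H64.Pts
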