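import Groth.Agent.H64.Pts.OpenSub
import Groth.Agent.H50.OpenImm

set_option autoImplicit false
universe u
open CategoryTheory CategoryTheory.Limits AlgebraicGeometry Opposite

/-! An open substack is determined by its set of points. -/

namespace Groth.Agent.H64.Pts

open AlgSt Groth.Agent.H32 Groth.Agent.H64 Groth.Agent.H64.Recog Groth.Agent.H64.FpRep
  Groth.Agent.H64.PTh

variable {S : Scheme.{u}} {𝒳 : AlgSt.Cat S}

/-- a strictly full subcategory fibred in groupoids is closed under sources of morphisms -/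
theorem prop_of_hom (h𝒳 : FibCat.IsFibGrpd 𝒳.p) (Q : 𝒳.obj → Prop)
    [ObjectProperty.IsClosedUnderIsomorphisms Q]
    (hfib : FibCat.IsFibGrpd (AlgSt.fullSub 𝒳 Q).p) {y' y : 𝒳.obj} (φ : y' ⟶ y) (hy : Q y) :
    Q y' := by
  obtain ⟨y'', ψ, hψ⟩ := hfib.exists_lift (x := (⟨y, hy⟩ : (AlgSt.fullSub 𝒳 Q).obj)) (𝒳.p.map φ)
  have hψ' : 𝒳.p.IsHomLift (𝒳.p.map φ) ψ.hom := (sub_isHomLift_iff (Q := Q) _ _).mp hψ
  have hs : 𝒳.p.IsStronglyCartesian (𝒳.p.map φ) ψ.hom := cart_of_fibGrpd 𝒳.p h𝒳 hψ'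
  obtain ⟨χ, hχ, -⟩ := cart_lift_id 𝒳.p hs φ (lift_map 𝒳.p φ)
  have : IsIso χ := isIso_of_lift_id 𝒳.p h𝒳 hχ
  exact ObjectProperty.prop_of_iso Q (asIso χ).symm y''.property

/-- the objects of an open substack have all their points in the set of points of the substack -/
theorem ofSet_range_of_prop (h𝒳 : FibCat.IsFibGrpd 𝒳.p) (Q : 𝒳.obj → Prop)
    [ObjectProperty.IsClosedUnderIsomorphisms Q]
    (hfib : FibCat.IsFibGrpd (AlgSt.fullSub 𝒳 Q).p) {y : 𝒳.obj} (hy : Q y) :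
    ofSet (Set.range (Points.map (AlgSt.subIncl 𝒳 Q))) y := by
  rintro p ⟨φ⟩
  have hp : Q p.obj := prop_of_hom h𝒳 Q hfib φ hy
  exact ⟨Points.mk ⟨p.K, p.str, ⟨p.obj, hp⟩, p.lies⟩, rfl⟩

/-- an object all of whose points lie in an open substack lies in the open substack -/
theorem prop_of_ofSet_range (h𝒳 : FibCat.IsFibGrpd 𝒳.p) (Q : 𝒳.obj → Prop)
    (hQ : IsOpenSubstack 𝒳 Q Scheme.fppfPrecoverage) {y : 𝒳.obj}
    (hy : ofSet (Set.range (Points.map (AlgSt.subIncl 𝒳 Q))) y) : Q y := by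
  have := hQ.1
  have hfib : FibCat.IsFibGrpd (AlgSt.fullSub 𝒳 Q).p := hQ.2.1.isStack.1
  let Y : Over S := 𝒳.p.obj y
  obtain ⟨ŷ, i, -⟩ := exists_yoneda h𝒳 y (rfl : 𝒳.p.obj y = Y)
  have hy' : ofSet (Set.range (Points.map (AlgSt.subIncl 𝒳 Q))) (ŷ.obj (ovT Y)) :=
    ofSet_of_hom _ i.hom hy
  have hpts : ∀ t : ↥Y.left, Points.ofChart ŷ t ∈ Set.range (Points.map (AlgSt.subIncl 𝒳 Q)) :=
    (ofSet_obj_iff h𝒳 _ ŷ (ovT Y)).1 hy'
  obtain ⟨F, e, he, hw⟩ := hQ.2.2 Y ŷ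
  -- surjectivity of the open immersion
  have hsurj : Function.Surjective (Points.map
      (BasedFunctor.comp e (FibCat.fpFst ŷ (AlgSt.subIncl 𝒳 Q)))) := by
    intro s
    obtain ⟨t, rfl⟩ := (ptU_bijective Y).2 s
    obtain ⟨η, hη⟩ := hpts t
    obtain ⟨w₀, hw₀, -⟩ := exists_points_fp_of_map_eq hfib h𝒳 (isFibSetoid_overCat Y).1
      (AlgSt.subIncl 𝒳 Q) ŷ (ptU Y t) η hη.symm
    obtain ⟨r, rfl⟩ := (map_bijective_of_isEquivOver he).2 w₀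
    exact ⟨r, by rw [map_comp]; exact hw₀⟩
  have hsurj' := (surjective_map_iff_isSurjectiveMor _).1 hsurj
  obtain ⟨a, haw⟩ := Groth.Agent.H50.exists_factor_of_isOpenImmersion _ hw (𝟙 _)
    (fun ξ _ => hsurj' ξ)
  -- the section
  obtain ⟨β⟩ := nonempty_iso_ofSpMap_spMapOfOver
    (BasedFunctor.comp e (FibCat.fpFst ŷ (AlgSt.subIncl 𝒳 Q)))
  have α : BasedFunctor.comp (ofSpMap (spMapOfOver
      (BasedFunctor.comp e (FibCat.fpFst ŷ (AlgSt.subIncl 𝒳 Q))))) (toOverCat Y) ≅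
      BasedFunctor.comp e (FibCat.fpFst ŷ (AlgSt.subIncl 𝒳 Q)) := bwrIso β (toOverCat Y)
  let G : FibCat.overCat Y ⥤ᵇ FibCat.fp ŷ (AlgSt.subIncl 𝒳 Q) :=
    BasedFunctor.comp (BasedFunctor.comp (ofOverCat Y) (ofSpMap a)) e
  have hG : BasedFunctor.comp (BasedFunctor.comp (ofOverCat Y) (ofSpMap a))
      (BasedFunctor.comp (ofSpMap (spMapOfOver
        (BasedFunctor.comp e (FibCat.fpFst ŷ (AlgSt.subIncl 𝒳 Q))))) (toOverCat Y)) =
      BasedFunctor.id _ := by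
    have h1 : BasedFunctor.comp (BasedFunctor.comp (ofOverCat Y) (ofSpMap a))
        (BasedFunctor.comp (ofSpMap (spMapOfOver
          (BasedFunctor.comp e (FibCat.fpFst ŷ (AlgSt.subIncl 𝒳 Q))))) (toOverCat Y)) =
        BasedFunctor.comp (ofOverCat Y) (BasedFunctor.comp (ofSpMap (a ≫ spMapOfOver
          (BasedFunctor.comp e (FibCat.fpFst ŷ (AlgSt.subIncl 𝒳 Q))))) (toOverCat Y)) := rfl
    rw [h1, haw]
    rfl
  have γ : BasedFunctor.comp G (FibCat.fpFst ŷ (AlgSt.subIncl 𝒳 Q)) ≅ BasedFunctor.id _ :=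
    (bwlIso (BasedFunctor.comp (ofOverCat Y) (ofSpMap a)) α.symm) ≪≫ eqToIso hG
  let ζ := G.obj (ovT Y)
  have e1 : ζ.obj.fst ≅ ovT Y := bappIso γ (ovT Y)
  have e2 : ŷ.obj ζ.obj.fst ≅ ŷ.obj (ovT Y) := ŷ.toFunctor.mapIso e1
  have e3 : ŷ.obj ζ.obj.fst ≅ ζ.obj.snd.obj := ζ.obj.iso
  exact ObjectProperty.prop_of_iso Q (e3.symm ≪≫ e2 ≪≫ i) ζ.obj.snd.property

theorem prop_iff_ofSet_range (h𝒳 : FibCat.IsFibGrpd 𝒳.p) (Q : 𝒳.obj → Prop)
    (hQ : IsOpenSubstack 𝒳 Q Scheme.fppfPrecoverage) (y : 𝒳.obj) :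
    Q y ↔ ofSet (Set.range (Points.map (AlgSt.subIncl 𝒳 Q))) y := by
  have := hQ.1
  exact ⟨ofSet_range_of_prop h𝒳 Q hQ.2.1.isStack.1, prop_of_ofSet_range h𝒳 Q hQ⟩

theorem ofSet_mono {T T' : Set (Points 𝒳)} (h : T ⊆ T') {y : 𝒳.obj} (hy : ofSet T y) :
    ofSet T' y := fun p hp => h (hy p hp)

/-- open substacks correspond to open subsets of the space of points -/
theorem isOpenSubstack_bijOn (h𝒳 : IsAlgStack Scheme.fppfPrecoverage 𝒳) :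
    Set.BijOn (fun Q : 𝒳.obj → Prop => Set.range (Points.map (AlgSt.subIncl 𝒳 Q)))
        {Q | IsOpenSubstack 𝒳 Q Scheme.fppfPrecoverage} {T | IsOpen T} ∧
      ∀ (Q Q' : 𝒳.obj → Prop), IsOpenSubstack 𝒳 Q Scheme.fppfPrecoverage →
        IsOpenSubstack 𝒳 Q' Scheme.fppfPrecoverage →
        ((∀ y, Q y → Q' y) ↔ Set.range (Points.map (AlgSt.subIncl 𝒳 Q)) ⊆
          Set.range (Points.map (AlgSt.subIncl 𝒳 Q'))) := by
  have hord : ∀ (Q Q' : 𝒳.obj → Prop), IsOpenSubstack 𝒳 Q Scheme.fppfPrecoverage →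
      IsOpenSubstack 𝒳 Q' Scheme.fppfPrecoverage →
      ((∀ y, Q y → Q' y) ↔ Set.range (Points.map (AlgSt.subIncl 𝒳 Q)) ⊆
        Set.range (Points.map (AlgSt.subIncl 𝒳 Q'))) := by
    intro Q Q' hQ hQ'
    constructor
    · rintro h _ ⟨η, rfl⟩
      obtain ⟨p, rfl⟩ := Points.mk_surjective η
      exact ⟨Points.mk ⟨p.K, p.str, ⟨p.obj.obj, h _ p.obj.property⟩, p.lies⟩, rfl⟩
    · intro h y hy
      rw [prop_iff_ofSet_range h𝒳.isStack.1 Q' hQ']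
      rw [prop_iff_ofSet_range h𝒳.isStack.1 Q hQ] at hy
      exact ofSet_mono h hy
  refine ⟨⟨?_, ?_, ?_⟩, hord⟩
  · intro Q hQ
    exact isOpen_range_subIncl h𝒳.isStack.1 Q hQ
  · intro Q hQ Q' hQ' hQQ'
    have hQQ'' : Set.range (Points.map (AlgSt.subIncl 𝒳 Q)) =
        Set.range (Points.map (AlgSt.subIncl 𝒳 Q')) := hQQ'
    funext y
    exact propext ⟨fun hy => (hord Q Q' hQ hQ').2 hQQ''.subset y hy,
      fun hy => (hord Q' Q hQ' hQ).2 hQQ''.superset y hy⟩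
  · intro T hT
    exact ⟨ofSet T, isOpenSubstack_ofSet h𝒳 T hT, range_map_subIncl_ofSet T⟩

end Groth.Agent.H64.Pts
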