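import Groth.Agent.H64.Pts.DiagSurj
import Groth.Agent.H64.Pts.OpenSubIff
import Groth.Agent.H64.Psh.DiagLft
import Groth.Agent.H50.GeomPts

set_option autoImplicit false
universe u
open CategoryTheory CategoryTheory.Limits AlgebraicGeometry Opposite

/-! Surjectivity of the diagonal of a morphism of algebraic stacks gives lifts of 2-arrows at
geometric points. -/

namespace Groth.Agent.H64.Pts

open AlgSt Groth.Agent.H32 Groth.Agent.H64 Groth.Agent.H64.Recog Groth.Agent.H64.FpRep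
  Groth.Agent.H64.PTh

variable {S : Scheme.{u}} {𝒳 𝒴 : AlgSt.Cat S}

/-- a section of the base change of `g` along `ŷ` gives an object of the source whose image is
the object classified by `ŷ` -/
theorem exists_obj_iso_of_section (g : 𝒳 ⥤ᵇ 𝒴) {Y : Over S} (ŷ : FibCat.overCat Y ⥤ᵇ 𝒴)
    {F : AlgSp.Sp S} (e : ofSp F ⥤ᵇ FibCat.fp ŷ g) (a : (AlgSp.yon S).obj Y ⟶ F)
    (haw : a ≫ spMapOfOver (BasedFunctor.comp e (FibCat.fpFst ŷ g)) = 𝟙 _) :
    ∃ b : 𝒳.obj, Nonempty (ŷ.obj (ovT Y) ≅ g.obj b) := by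
  obtain ⟨β⟩ := nonempty_iso_ofSpMap_spMapOfOver (BasedFunctor.comp e (FibCat.fpFst ŷ g))
  have α : BasedFunctor.comp (ofSpMap (spMapOfOver
      (BasedFunctor.comp e (FibCat.fpFst ŷ g)))) (toOverCat Y) ≅
      BasedFunctor.comp e (FibCat.fpFst ŷ g) := bwrIso β (toOverCat Y)
  let G : FibCat.overCat Y ⥤ᵇ FibCat.fp ŷ g :=
    BasedFunctor.comp (BasedFunctor.comp (ofOverCat Y) (ofSpMap a)) e
  have hG : BasedFunctor.comp (BasedFunctor.comp (ofOverCat Y) (ofSpMap a))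
      (BasedFunctor.comp (ofSpMap (spMapOfOver
        (BasedFunctor.comp e (FibCat.fpFst ŷ g)))) (toOverCat Y)) =
      BasedFunctor.id _ := by
    have h1 : BasedFunctor.comp (BasedFunctor.comp (ofOverCat Y) (ofSpMap a))
        (BasedFunctor.comp (ofSpMap (spMapOfOver
          (BasedFunctor.comp e (FibCat.fpFst ŷ g)))) (toOverCat Y)) =
        BasedFunctor.comp (ofOverCat Y) (BasedFunctor.comp (ofSpMap (a ≫ spMapOfOver
          (BasedFunctor.comp e (FibCat.fpFst ŷ g)))) (toOverCat Y)) := rfl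
    rw [h1, haw]
    rfl
  have γ : BasedFunctor.comp G (FibCat.fpFst ŷ g) ≅ BasedFunctor.id _ :=
    (bwlIso (BasedFunctor.comp (ofOverCat Y) (ofSpMap a)) α.symm) ≪≫ eqToIso hG
  let ζ := G.obj (ovT Y)
  have e1 : ζ.obj.fst ≅ ovT Y := bappIso γ (ovT Y)
  have e2 : ŷ.obj ζ.obj.fst ≅ ŷ.obj (ovT Y) := ŷ.toFunctor.mapIso e1
  have e3 : ŷ.obj ζ.obj.fst ≅ g.obj ζ.obj.snd := ζ.obj.iso
  exact ⟨ζ.obj.snd, ⟨e2.symm ≪≫ e3⟩⟩

/-- if the diagonal of a morphism of algebraic stacks is surjective, 2-arrows between images of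
geometric points lift -/
theorem lift_of_isSurjective_diag (h𝒳 : IsAlgStack Scheme.fppfPrecoverage 𝒳)
    (h𝒴 : IsAlgStack Scheme.fppfPrecoverage 𝒴) (f : 𝒳 ⥤ᵇ 𝒴)
    (hs : AlgSt.IsSurjective (FibCat.diag f))
    (k : Type u) [Field k] [IsAlgClosed k] (s : Spec (CommRingCat.of k) ⟶ S) (a₁ a₂ : 𝒳.obj)
    (h₁ : 𝒳.p.obj a₁ = Over.mk s) (_h₂ : 𝒳.p.obj a₂ = Over.mk s) (β : f.obj a₁ ⟶ f.obj a₂)
    (hβ : 𝒴.p.IsHomLift (𝟙 (Over.mk s)) β) :
    ∃ α : a₁ ⟶ a₂, 𝒳.p.IsHomLift (𝟙 (Over.mk s)) α ∧ f.map α = β := by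
  have hX : FibCat.IsFibGrpd 𝒳.p := h𝒳.isStack.1
  have hY : FibCat.IsFibGrpd 𝒴.p := h𝒴.isStack.1
  have hfp : FibCat.IsFibGrpd (FibCat.fp f f).p := isFibGrpd_fp _ _ hX hX hY
  have hβiso : IsIso β := isIso_of_lift_id 𝒴.p hY hβ
  let T : Over S := Over.mk s
  have hT : FibCat.IsFibGrpd (FibCat.overCat T).p := (isFibSetoid_overCat T).1
  let ζ : (FibCat.fp f f).obj :=
    ⟨{ fst := a₁, snd := a₂, iso := asIso β }, lift_id_congr 𝒴.p hβ h₁.symm⟩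
  have hζ : (FibCat.fp f f).p.obj ζ = T := h₁
  obtain ⟨zh, i, -⟩ := exists_yoneda hfp ζ hζ
  -- the base change of the diagonal
  have hΔlft := locP_lft_diag h𝒳 h𝒴 f
  obtain ⟨F, e, he, hw⟩ := hΔlft T zh
  have hsurj : Function.Surjective (Points.map
      (BasedFunctor.comp e (FibCat.fpFst zh (FibCat.diag f)))) := by
    intro t
    obtain ⟨η, hη⟩ := hs (Points.map zh t)
    obtain ⟨w₀, hw₀, -⟩ := exists_points_fp_of_map_eq hX hfp hT (FibCat.diag f) zh t η hη.symm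
    obtain ⟨r, rfl⟩ := (map_bijective_of_isEquivOver he).2 w₀
    exact ⟨r, by rw [map_comp]; exact hw₀⟩
  have hsurj' := (surjective_map_iff_isSurjectiveMor _).1 hsurj
  obtain ⟨x, hx⟩ := Groth.Agent.H50.exists_geometric_lift F.property (AlgSp.IsAlgSpace.yon_obj T)
    _ hw hsurj' k s (𝟙 _)
  obtain ⟨b, ⟨θ⟩⟩ := exists_obj_iso_of_section (FibCat.diag f) zh e x hx
  -- the isomorphism in the fibre product
  let Θ : ζ ≅ (FibCat.diag f).obj b := i.symm ≪≫ θ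
  obtain ⟨φ₁, φ₂, hiso2, hw'⟩ : ∃ (φ₁ : a₁ ⟶ b) (φ₂ : a₂ ⟶ b), IsIso φ₂ ∧
      f.map φ₁ = β ≫ f.map φ₂ :=
    ⟨Θ.hom.hom.fst, Θ.hom.hom.snd,
      (inferInstance : IsIso ((FibCat.fpSnd f f).toFunctor.mapIso Θ).hom),
      (Category.comp_id _).symm.trans Θ.hom.hom.w⟩
  have hfα : f.map (φ₁ ≫ inv φ₂) = β := by
    rw [f.toFunctor.map_comp, Functor.map_inv, hw', Category.assoc, IsIso.hom_inv_id,
      Category.comp_id]
  refine ⟨φ₁ ≫ inv φ₂, ?_, hfα⟩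
  rw [← BasedFunctor.isHomLift_iff f, hfα]
  exact hβ

end Groth.Agent.H64.Pts
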