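import Groth.Agent.H64.Pts.Space
import Groth.Agent.H64.Psh.AtlasLemma

set_option autoImplicit false
universe u
open CategoryTheory CategoryTheory.Limits AlgebraicGeometry Opposite

/-! The comparison `|F| → |ofSp F|` is a homeomorphism for an algebraic space `F`; equivalences of
algebraic stacks induce homeomorphisms on points. -/

namespace Groth.Agent.H64.Pts

open AlgSt Groth.Agent.H32 Groth.Agent.H64 Groth.Agent.H64.Recog Groth.Agent.H64.FpRep
  Groth.Agent.H64.PTh

variable {S : Scheme.{u}}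

/-- the comparison on points of a scheme mapping to a sheaf -/
theorem σ_ofPt {F : AlgSp.Sp S} {T : Over S} (g : (AlgSp.yon S).obj T ⟶ F) (t : ↥T.left) :
    σ F (AlgSp.Points.ofPt g t) =
      Points.ofChart (BasedFunctor.comp (ofOverCat T) (ofSpMap g)) t := rfl

/-- every functor from a slice to the category of a sheaf comes from a map of sheaves -/
theorem exists_iso_ofOverCat_comp {F : AlgSp.Sp S} {T : Over S}
    (x : FibCat.overCat T ⥤ᵇ ofSp F) :
    ∃ g : (AlgSp.yon S).obj T ⟶ F,
      Nonempty (BasedFunctor.comp (ofOverCat T) (ofSpMap g) ≅ x) := by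
  let Φ : ofSp ((AlgSp.yon S).obj T) ⥤ᵇ ofSp F := BasedFunctor.comp (toOverCat T) x
  obtain ⟨β⟩ := nonempty_iso_ofPshMap Φ
  let g : (AlgSp.yon S).obj T ⟶ F := ObjectProperty.homMk (pshMapOf Φ)
  refine ⟨g, ⟨?_⟩⟩
  have h1 : BasedFunctor.comp (ofOverCat T) Φ = x := rfl
  exact bwlIso (ofOverCat T) β ≪≫ eqToIso h1

theorem continuous_σ (F : AlgSp.Space S) : Continuous (σ F.obj) := by
  have hF : IsAlgStack Scheme.fppfPrecoverage (ofSp F.obj) := (isDM_ofSp F).1
  refine continuous_def.2 fun W hW => ?_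
  rw [AlgSp.Points.isOpen_iff]
  intro T g
  have : AlgSp.Points.ofPt g ⁻¹' (σ F.obj ⁻¹' W) =
      Points.ofChart (BasedFunctor.comp (ofOverCat T) (ofSpMap g)) ⁻¹' W := rfl
  rw [this]
  exact hW.preimage (continuous_ofChart hF _)

theorem isOpenMap_σ (F : AlgSp.Sp S) : IsOpenMap (σ F) := by
  intro A hA T x _
  obtain ⟨g, ⟨β⟩⟩ := exists_iso_ofOverCat_comp x
  have : Points.ofChart x ⁻¹' (σ F '' A) = AlgSp.Points.ofPt g ⁻¹' A := by
    ext t
    simp only [Set.mem_preimage, Set.mem_image]
    rw [← ofChart_eq_of_hom β.hom t, ← σ_ofPt]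
    constructor
    · rintro ⟨r, hr, h⟩
      rwa [← σ_injective h]
    · intro h
      exact ⟨_, h, rfl⟩
  rw [this]
  exact (AlgSp.Points.isOpen_iff.1 hA) T g

/-- the points of the category of an algebraic space are the points of the algebraic space -/
noncomputable def σHomeo (F : AlgSp.Space S) : AlgSp.Points F.obj ≃ₜ Points (ofSp F.obj) :=
  (Equiv.ofBijective (σ F.obj) σ_bijective).toHomeomorphOfContinuousOpen (continuous_σ F)
    (isOpenMap_σ F.obj)

@[simp] theorem σHomeo_apply (F : AlgSp.Space S) (r : AlgSp.Points F.obj) :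
    σHomeo F r = σ F.obj r := rfl

variable {𝒳 𝒴 : AlgSt.Cat S}

/-- an equivalence of algebraic stacks is a homeomorphism on points -/
theorem isHomeomorph_map_of_isEquivOver (h𝒳 : IsAlgStack Scheme.fppfPrecoverage 𝒳)
    (h𝒴 : IsAlgStack Scheme.fppfPrecoverage 𝒴) (e : 𝒳 ⥤ᵇ 𝒴) (he : FibCat.IsEquivOver e) :
    IsHomeomorph (Points.map e) := by
  obtain ⟨d, ⟨e₁⟩, ⟨e₂⟩⟩ := he
  have hc : Continuous (Points.map e) := continuous_map h𝒴 e
  have hd : Continuous (Points.map d) := continuous_map h𝒳 d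
  have h1 : Function.LeftInverse (Points.map d) (Points.map e) := fun x => by
    rw [← map_comp, map_eq_of_hom e₁.hom, map_id]
  have h2 : Function.RightInverse (Points.map d) (Points.map e) := fun y => by
    rw [← map_comp, map_eq_of_hom e₂.hom, map_id]
  exact (Homeomorph.mk ⟨Points.map e, Points.map d, h1, h2⟩ hc hd).isHomeomorph

/-- the points of a slice are the points of the scheme, topologically -/
theorem isHomeomorph_ptU (U : Over S) : IsHomeomorph (ptU U) := by
  have hU : IsAlgStack Scheme.fppfPrecoverage (FibCat.overCat U) :=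
    (isDM_of_repByAlgSp (repByAlgSp_overCat U)).1
  have h1 : IsHomeomorph (Points.map (toOverCat U)) :=
    isHomeomorph_map_of_isEquivOver (isDM_ofSp (yonSpace U)).1 hU _ (isEquivOver_toOverCat U)
  have h2 : IsHomeomorph (σ ((AlgSp.yon S).obj U)) := (σHomeo (yonSpace U)).isHomeomorph
  have h3 : IsHomeomorph (AlgSp.Points.ofScheme U) := (AlgSp.Points.schemeHomeo U).isHomeomorph
  exact (h1.comp h2).comp h3

end Groth.Agent.H64.Pts
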