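import Groth.Agent.H64.Pts.OpenSubIff
import Groth.Agent.H64.MonoFF
import Groth.Agent.H64.AlgStEquiv
import Groth.Agent.H64.UnramQF
import Groth.Agent.H49.AlgSpBasic

set_option autoImplicit false
universe u
open CategoryTheory CategoryTheory.Limits AlgebraicGeometry Opposite

/-! The locally closed substack of an immersion. -/

namespace Groth.Agent.H64.Pts

open AlgSt Groth.Agent.H32 Groth.Agent.H64 Groth.Agent.H64.Recog Groth.Agent.H64.FpRep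
  Groth.Agent.H64.PTh

variable {S : Scheme.{u}} {𝒵 𝒳 : AlgSt.Cat S}

/-- the essential image of a functor -/
def essIm (i : 𝒵 ⥤ᵇ 𝒳) : 𝒳.obj → Prop := fun y => ∃ z : 𝒵.obj, Nonempty (i.obj z ≅ y)

instance essIm_isClosedUnderIso (i : 𝒵 ⥤ᵇ 𝒳) :
    ObjectProperty.IsClosedUnderIsomorphisms (essIm i) :=
  ⟨fun e ⟨z, ⟨ε⟩⟩ => ⟨z, ⟨ε ≪≫ e⟩⟩⟩

/-- the corestriction to the essential image -/
def toEssIm (i : 𝒵 ⥤ᵇ 𝒳) : 𝒵 ⥤ᵇ AlgSt.fullSub 𝒳 (essIm i) :=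
  subLiftFunctor (Q := essIm i) i (fun z => ⟨z, ⟨Iso.refl _⟩⟩)

theorem toEssIm_comp (i : 𝒵 ⥤ᵇ 𝒳) :
    BasedFunctor.comp (toEssIm i) (AlgSt.subIncl 𝒳 (essIm i)) = i := rfl

theorem isEquivOver_toEssIm (h𝒵 : FibCat.IsFibGrpd 𝒵.p) (h𝒳 : FibCat.IsFibGrpd 𝒳.p)
    (i : 𝒵 ⥤ᵇ 𝒳) [i.toFunctor.Full] [i.toFunctor.Faithful] :
    FibCat.IsEquivOver (toEssIm i) := by
  have : (toEssIm i).toFunctor.Faithful :=
    ⟨fun {a b} g g' h => i.toFunctor.map_injective (congrArg (fun t => t.hom) h)⟩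
  have : (toEssIm i).toFunctor.Full :=
    ⟨fun {a b} f => ⟨i.toFunctor.preimage f.hom, by
      apply ObjectProperty.hom_ext
      exact i.toFunctor.map_preimage f.hom⟩⟩
  apply isEquivOver_of_fullyFaithful_of_fiberwise_essSurj
  intro η
  obtain ⟨z, ⟨ε⟩⟩ := η.property
  obtain ⟨t, -, e, he⟩ := exists_lift_obj h𝒵 h𝒳 i z η.obj ε.inv
  refine ⟨t, ObjectProperty.isoMk (essIm i) e, ?_⟩
  exact (sub_isHomLift_iff (Q := essIm i) _ _).mpr he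

/-- the substack of an immersion -/
theorem exists_unique_locClosedSubstack (h𝒵 : IsAlgStack Scheme.fppfPrecoverage 𝒵)
    (h𝒳 : IsAlgStack Scheme.fppfPrecoverage 𝒳) (i : 𝒵 ⥤ᵇ 𝒳) (hi : IsImm i) :
    ∃ Q : 𝒳.obj → Prop,
      (IsLocClosedSubstack 𝒳 Q Scheme.fppfPrecoverage ∧
        (∃ i' : 𝒵 ⥤ᵇ AlgSt.fullSub 𝒳 Q, FibCat.IsEquivOver i' ∧
          Nonempty (BasedFunctor.comp i' (AlgSt.subIncl 𝒳 Q) ≅ i)) ∧
        (IsClosedImm i → IsClosedSubstack 𝒳 Q Scheme.fppfPrecoverage) ∧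
        (IsOpenImm i → IsOpenSubstack 𝒳 Q Scheme.fppfPrecoverage)) ∧
      ∀ Q' : 𝒳.obj → Prop, IsLocClosedSubstack 𝒳 Q' Scheme.fppfPrecoverage →
        (∃ i' : 𝒵 ⥤ᵇ AlgSt.fullSub 𝒳 Q', FibCat.IsEquivOver i' ∧
          Nonempty (BasedFunctor.comp i' (AlgSt.subIncl 𝒳 Q') ≅ i)) → Q' = Q := by
  have hmono : IsMono i := by
    refine Groth.Agent.H64.repByAlgSpWith_mono (fun F G m hm => ?_) hi
    exact Groth.Agent.H49.mono_of_repWith_mono (P := @IsImmersion)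
      (fun X Y g hg => by
        have : IsImmersion g := hg
        exact (inferInstance : Mono g)) m hm
  obtain ⟨hfull, hfaith⟩ := full_faithful_of_isMono h𝒵.isStack.1 h𝒳.isStack.1 i hmono
  have he : FibCat.IsEquivOver (toEssIm i) := isEquivOver_toEssIm h𝒵.isStack.1 h𝒳.isStack.1 i
  have halg : IsAlgStack Scheme.fppfPrecoverage (AlgSt.fullSub 𝒳 (essIm i)) :=
    isAlgStack_of_isEquivOver _ (toEssIm i) he h𝒵
  have key : ∀ P : MorphismProperty (AlgSp.Sp S), RepByAlgSpWith P i →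
      RepByAlgSpWith P (AlgSt.subIncl 𝒳 (essIm i)) := fun P hP =>
    repByAlgSpWith_of_square' P (AlgSt.subIncl 𝒳 (essIm i)) i (toEssIm i) (BasedFunctor.id 𝒳) he
      (isEquivOver_id _) (Iso.refl _) hP
  refine ⟨essIm i, ⟨⟨inferInstance, halg, key _ hi⟩, ⟨toEssIm i, he, ⟨Iso.refl _⟩⟩,
    fun hc => ⟨inferInstance, halg, key _ hc⟩, fun ho => ⟨inferInstance, halg, key _ ho⟩⟩, ?_⟩
  rintro Q' ⟨hQ'iso, -, -⟩ ⟨i', hi', ⟨α⟩⟩
  funext y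
  apply propext
  constructor
  · intro hy
    obtain ⟨z, e, -⟩ := fiberwise_essSurj_of_isEquivOver hi' (⟨y, hy⟩ : (AlgSt.fullSub 𝒳 Q').obj)
    exact ⟨z, ⟨(bappIso α z).symm ≪≫ (ObjectProperty.ι Q').mapIso e⟩⟩
  · rintro ⟨z, ⟨ε⟩⟩
    have h1 : Q' (i.obj z) := ObjectProperty.prop_of_iso Q' (bappIso α z) (i'.obj z).property
    exact ObjectProperty.prop_of_iso Q' ε h1

end Groth.Agent.H64.Pts
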