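import Groth.Agent.H64.Pts.OpenMap
import Groth.Agent.H64.Stk.SubFp

set_option autoImplicit false
universe u
open CategoryTheory CategoryTheory.Limits AlgebraicGeometry Opposite

/-! The substack of an algebraic stack defined by a set of points. -/

namespace Groth.Agent.H64.Pts

open AlgSt Groth.Agent.H32 Groth.Agent.H64 Groth.Agent.H64.Recog Groth.Agent.H64.FpRep
  Groth.Agent.H64.PTh

variable {S : Scheme.{u}} {𝒳 : AlgSt.Cat S}

/-- the point of a slice defined by a morphism from the spectrum of a field -/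
theorem mk_overCat_eq_ptU {Y : Over S} {K : Type u} [Field K] (str : Spec (.of K) ⟶ S)
    (m : Over.mk str ⟶ Y) :
    Points.mk (⟨K, str, Over.mk m, rfl⟩ : FPt (FibCat.overCat Y)) =
      ptU Y (m.left (IsLocalRing.closedPoint K)) := by
  rw [ptU_eq, AlgSp.Points.ofScheme_apply_eq_mk Y m.left (Over.w m)]
  rfl

/-- the point of `𝒳` defined by a morphism from the spectrum of a field to a chart -/
theorem mk_eq_ofChart {Y : Over S} (y : FibCat.overCat Y ⥤ᵇ 𝒳) {K : Type u} [Field K]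
    (str : Spec (.of K) ⟶ S) (m : Over.mk str ⟶ Y) :
    Points.mk (⟨K, str, y.obj (Over.mk m), y.w_obj _⟩ : FPt 𝒳) =
      Points.ofChart y (m.left (IsLocalRing.closedPoint K)) := by
  rw [ofChart_eq, ← mk_overCat_eq_ptU str m]
  rfl

/-- lift an object mapping to the image of `z` to an object mapping to `z` -/
theorem exists_lift_obj {𝒵 𝒴 : AlgSt.Cat S} (h𝒵 : FibCat.IsFibGrpd 𝒵.p)
    (h𝒴 : FibCat.IsFibGrpd 𝒴.p) (g : 𝒵 ⥤ᵇ 𝒴) (z : 𝒵.obj) (r : 𝒴.obj) (c : r ⟶ g.obj z) :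
    ∃ (t : 𝒵.obj) (_ : t ⟶ z) (e : g.obj t ≅ r), 𝒴.p.IsHomLift (𝟙 (𝒴.p.obj r)) e.hom := by
  have hgp : 𝒴.p.obj (g.obj z) = 𝒵.p.obj z := g.w_obj z
  let β : 𝒴.p.obj r ⟶ 𝒵.p.obj z := 𝒴.p.map c ≫ eqToHom hgp
  obtain ⟨t, ψ, hψ⟩ := h𝒵.exists_lift (x := z) β
  have hgψ : 𝒴.p.IsHomLift β (g.map ψ) := (BasedFunctor.isHomLift_iff g _ _).mpr hψ
  have hc : 𝒴.p.IsHomLift β c := by
    apply IsHomLift.of_fac' 𝒴.p β c rfl hgp
    simp [β]
  have hsc : 𝒴.p.IsStronglyCartesian β c := cart_of_fibGrpd 𝒴.p h𝒴 hc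
  obtain ⟨χ, hχ, -⟩ := cart_lift_id 𝒴.p hsc (g.map ψ) hgψ
  have hiso : IsIso χ := isIso_of_lift_id 𝒴.p h𝒴 hχ
  exact ⟨t, ψ, @asIso _ _ _ _ χ hiso, hχ⟩

/-- the objects all of whose field-valued points lie in `T` -/
def ofSet (T : Set (Points 𝒳)) : 𝒳.obj → Prop :=
  fun y => ∀ p : FPt 𝒳, Nonempty (p.obj ⟶ y) → Points.mk p ∈ T

theorem ofSet_of_hom (T : Set (Points 𝒳)) {y' y : 𝒳.obj} (φ : y' ⟶ y) (h : ofSet T y) :
    ofSet T y' :=
  fun p ⟨ψ⟩ => h p ⟨ψ ≫ φ⟩

instance ofSet_isClosedUnderIso (T : Set (Points 𝒳)) :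
    ObjectProperty.IsClosedUnderIsomorphisms (ofSet T) :=
  ⟨fun e h => ofSet_of_hom T e.inv h⟩

theorem ofSet_obj_iff (h𝒳 : FibCat.IsFibGrpd 𝒳.p) (T : Set (Points 𝒳)) {Y : Over S}
    (y : FibCat.overCat Y ⥤ᵇ 𝒳) (c : Over Y) :
    ofSet T (y.obj c) ↔ ∀ t : ↥c.left.left, Points.ofChart y (c.hom.left t) ∈ T := by
  constructor
  · intro h t
    let m : Over.mk (c.left.left.fromSpecResidueField t ≫ c.left.hom) ⟶ Y :=
      (Over.homMk (c.left.left.fromSpecResidueField t) rfl :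
        Over.mk (c.left.left.fromSpecResidueField t ≫ c.left.hom) ⟶ c.left) ≫ c.hom
    let γ : (Over.mk m : Over Y) ⟶ c :=
      Over.homMk (Over.homMk (c.left.left.fromSpecResidueField t) rfl :
        Over.mk (c.left.left.fromSpecResidueField t ≫ c.left.hom) ⟶ c.left) rfl
    have h1 := h ⟨_, _, y.obj (Over.mk m), y.w_obj _⟩ ⟨y.map γ⟩
    have e1 := mk_eq_ofChart y _ m
    have h1' := (congrArg (fun ξ => ξ ∈ T) e1).mp h1
    have h2 : ∀ z : ↥(Spec (c.left.left.residueField t)), m.left z = c.hom.left t := fun z => by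
      have e2 : m.left z = c.hom.left (c.left.left.fromSpecResidueField t z) :=
        Scheme.Hom.comp_apply (c.left.left.fromSpecResidueField t) c.hom.left z
      rw [e2, Scheme.fromSpecResidueField_apply]
    exact (congrArg (fun v => Points.ofChart y v ∈ T) (h2 _)).mp h1'
  · intro h p ⟨φ⟩
    obtain ⟨t, ψ, e, he⟩ := exists_lift_obj (isFibSetoid_overCat Y).1 h𝒳 y c p.obj φ
    have ht : t.left = Over.mk p.str := by
      have h1 : 𝒳.p.obj (y.obj t) = 𝒳.p.obj p.obj := lift_domain_eq 𝒳.p he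
      exact (y.w_obj t).symm.trans (h1.trans p.lies)
    obtain ⟨K, str, pobj, plies⟩ := p
    obtain ⟨tl, ⟨⟨⟩⟩, th⟩ := t
    have ht' : tl = Over.mk str := ht
    subst ht'
    have h3 : Points.mk (⟨K, str, pobj, plies⟩ : FPt 𝒳) =
        Points.mk (⟨K, str, y.obj (Over.mk th), y.w_obj _⟩ : FPt 𝒳) :=
      Points.sound ⟨⟨K, str, y.obj (Over.mk th), y.w_obj _⟩, e.hom, 𝟙 _, trivial⟩
    rw [h3, mk_eq_ofChart y str th]
    have h4 : th = ψ.left ≫ c.hom := (Over.w ψ).symm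
    rw [h4]
    exact h _

end Groth.Agent.H64.Pts

namespace Groth.Agent.H64.Pts

open AlgSt Groth.Agent.H32 Groth.Agent.H64 Groth.Agent.H64.Recog Groth.Agent.H64.FpRep
  Groth.Agent.H64.PTh

variable {S : Scheme.{u}}

section openSlice

variable {Y : Over S} (W : Y.left.Opens)

/-- an open subscheme of `Y`, as a scheme over `S` -/
noncomputable def opOver : Over S := Over.mk (W.ι ≫ Y.hom)

/-- the inclusion of an open subscheme, over `S` -/
noncomputable def opIncl : opOver W ⟶ Y := Over.homMk W.ι rfl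

instance : Mono (opIncl W) := by
  have : Mono ((Over.forget S).map (opIncl W)) := (inferInstance : Mono W.ι)
  exact (Over.forget S).mono_of_mono_map this

variable (Q' : ObjectProperty (Over Y))
  (hQ' : ∀ c : Over Y, Q' c ↔ Set.range c.hom.left ⊆ (W : Set ↥Y.left))

include hQ' in
theorem opProp_map (c' : Over (opOver W)) : Q' ((AlgSt.overMap (opIncl W)).obj c') := by
  apply (hQ' _).2
  rintro _ ⟨t, rfl⟩
  have h1 : ((AlgSt.overMap (opIncl W)).obj c').hom.left t = W.ι (c'.hom.left t) :=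
    Scheme.Hom.comp_apply c'.hom.left W.ι t
  rw [h1]
  exact (c'.hom.left t).2

/-- the slice of an open subscheme as the full subcategory of the slice -/
noncomputable def opSub : FibCat.overCat (opOver W) ⥤ᵇ subCat (𝒳 := FibCat.overCat Y) Q' :=
  subLiftFunctor (AlgSt.overMap (opIncl W)) (opProp_map W Q' hQ')

theorem opSub_comp_subIncl :
    BasedFunctor.comp (opSub W Q' hQ') (subIncl (𝒳 := FibCat.overCat Y) Q') =
      AlgSt.overMap (opIncl W) := rfl

instance opSub_faithful : (opSub W Q' hQ').toFunctor.Faithful where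
  map_injective {a b} g g' h := by
    apply Over.OverMorphism.ext
    exact congrArg (fun t => t.hom.left) h

instance opSub_full : (opSub W Q' hQ').toFunctor.Full where
  map_surjective {a b} f := by
    have hw : f.hom.left ≫ (b.hom ≫ opIncl W) = a.hom ≫ opIncl W := Over.w f.hom
    have hw' : f.hom.left ≫ b.hom = a.hom :=
      (cancel_mono (opIncl W)).1 ((Category.assoc _ _ _).trans hw)
    refine ⟨Over.homMk f.hom.left hw', ?_⟩
    apply ObjectProperty.hom_ext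
    apply Over.OverMorphism.ext
    rfl

theorem isEquivOver_opSub : FibCat.IsEquivOver (opSub W Q' hQ') := by
  apply isEquivOver_of_fullyFaithful_of_fiberwise_essSurj
  intro η
  have hc : Set.range η.obj.hom.left ⊆ (W : Set ↥Y.left) := (hQ' η.obj).1 η.property
  have hr : Set.range η.obj.hom.left ⊆ Set.range W.ι := by
    rw [Scheme.Opens.range_ι]
    exact hc
  let l : η.obj.left.left ⟶ (W : Scheme.{u}) := IsOpenImmersion.lift W.ι η.obj.hom.left hr
  have hl : l ≫ W.ι = η.obj.hom.left := IsOpenImmersion.lift_fac W.ι η.obj.hom.left hr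
  have hl' : l ≫ (opOver W).hom = η.obj.left.hom := by
    show l ≫ W.ι ≫ Y.hom = _
    rw [← Category.assoc, hl]
    exact Over.w η.obj.hom
  let ch : η.obj.left ⟶ opOver W := Over.homMk l hl'
  have hch : ch ≫ opIncl W = η.obj.hom := by
    apply Over.OverMorphism.ext
    exact hl
  let c' : Over (opOver W) := Over.mk ch
  let e₀ : (AlgSt.overMap (opIncl W)).obj c' ≅ η.obj :=
    Over.isoMk (Iso.refl _) (by
      show 𝟙 _ ≫ η.obj.hom = ch ≫ opIncl W
      rw [Category.id_comp, hch])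
  let e : (opSub W Q' hQ').obj c' ≅ η := ObjectProperty.isoMk Q' e₀
  refine ⟨c', e, ?_⟩
  have h1 : (subCat (𝒳 := FibCat.overCat Y) Q').p.map e.hom = 𝟙 _ := rfl
  exact lift_of_eq _ (lift_map _ e.hom) h1

end openSlice

end Groth.Agent.H64.Pts

namespace Groth.Agent.H64.Pts

open AlgSt Groth.Agent.H32 Groth.Agent.H64 Groth.Agent.H64.Recog Groth.Agent.H64.FpRep
  Groth.Agent.H64.PTh

variable {S : Scheme.{u}} {𝒳 : AlgSt.Cat S}

theorem isFibGrpd_fullSub_ofSet (h𝒳 : FibCat.IsFibGrpd 𝒳.p) (T : Set (Points 𝒳)) :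
    FibCat.IsFibGrpd (AlgSt.fullSub 𝒳 (ofSet T)).p :=
  isFibGrpd_subCat (Q := ofSet T) h𝒳 (fun _ _ φ h => ofSet_of_hom T φ h)

/-- the inclusion of the substack of an open set of points is an open immersion -/
theorem isOpenImm_subIncl_ofSet (h𝒳 : IsAlgStack Scheme.fppfPrecoverage 𝒳) (T : Set (Points 𝒳))
    (hT : IsOpen T) : IsOpenImm (AlgSt.subIncl 𝒳 (ofSet T)) := by
  intro Y y
  let W : Y.left.Opens := ⟨Points.ofChart y ⁻¹' T, hT.preimage (continuous_ofChart h𝒳 y)⟩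
  let Q' : ObjectProperty (Over Y) := pbProp (𝒳 := 𝒳) (𝒜 := FibCat.overCat Y) (ofSet T) y
  have hQ' : ∀ c : Over Y, Q' c ↔ Set.range c.hom.left ⊆ (W : Set ↥Y.left) := by
    intro c
    have h1 : Q' c ↔ ∀ t : ↥c.left.left, Points.ofChart y (c.hom.left t) ∈ T :=
      ofSet_obj_iff h𝒳.isStack.1 T y c
    rw [h1]
    constructor
    · rintro h _ ⟨t, rfl⟩
      exact h t
    · intro h t
      exact h ⟨t, rfl⟩
  let e : ofSp (yonSpace (opOver W)).obj ⥤ᵇ FibCat.fp y (AlgSt.subIncl 𝒳 (ofSet T)) :=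
    BasedFunctor.comp (toOverCat (opOver W))
      (BasedFunctor.comp (opSub W Q' hQ') (subFp (𝒳 := 𝒳) (ofSet T) y))
  have he : FibCat.IsEquivOver e :=
    isEquivOver_comp (isEquivOver_toOverCat _)
      (isEquivOver_comp (isEquivOver_opSub W Q' hQ') (isEquivOver_subFp (𝒳 := 𝒳) (ofSet T) y))
  refine ⟨yonSpace (opOver W), e, he, ?_⟩
  have h1 : BasedFunctor.comp e (FibCat.fpFst y (AlgSt.subIncl 𝒳 (ofSet T))) =
      BasedFunctor.comp (Stk.ofPshMap ((AlgSp.yon S).map (opIncl W)).hom) (toOv.{u+1} Y) := rfl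
  have h2 : spMapOfOver (F := (yonSpace (opOver W)).obj) (U := Y)
      (BasedFunctor.comp (Stk.ofPshMap ((AlgSp.yon S).map (opIncl W)).hom) (toOv.{u+1} Y)) =
      (AlgSp.yon S).map (opIncl W) :=
    spMapOfOver_comp_toOv (F := (yonSpace (opOver W)).obj) ((AlgSp.yon S).map (opIncl W)).hom
  have h3 : spMapOfOver (F := (yonSpace (opOver W)).obj) (U := Y)
      (BasedFunctor.comp e (FibCat.fpFst y (AlgSt.subIncl 𝒳 (ofSet T)))) =
      (AlgSp.yon S).map (opIncl W) := (congrArg _ h1).trans h2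
  rw [h3]
  exact (AlgSp.repWith_yon_map_iff @IsOpenImmersion (opIncl W)).2
    (inferInstance : IsOpenImmersion W.ι)

theorem isOpenSubstack_ofSet (h𝒳 : IsAlgStack Scheme.fppfPrecoverage 𝒳) (T : Set (Points 𝒳))
    (hT : IsOpen T) : IsOpenSubstack 𝒳 (ofSet T) Scheme.fppfPrecoverage := by
  have ho := isOpenImm_subIncl_ofSet h𝒳 T hT
  exact ⟨inferInstance,
    isAlgStack_of_repByAlgSp1 (isFibGrpd_fullSub_ofSet h𝒳.isStack.1 T) h𝒳 _
      (RepByAlgSpWith.repByAlgSp1 ho), ho⟩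

theorem range_map_subIncl_ofSet (T : Set (Points 𝒳)) :
    Set.range (Points.map (AlgSt.subIncl 𝒳 (ofSet T))) = T := by
  ext ξ
  constructor
  · rintro ⟨η, rfl⟩
    obtain ⟨p, rfl⟩ := Points.mk_surjective η
    exact p.obj.property (p.map (AlgSt.subIncl 𝒳 (ofSet T))) ⟨𝟙 _⟩
  · intro hξ
    obtain ⟨p, rfl⟩ := Points.mk_surjective ξ
    have hp : ofSet T p.obj := by
      rintro p' ⟨φ⟩
      have : Points.mk p' = Points.mk p := Points.sound ⟨p', 𝟙 _, φ, trivial⟩
      rw [this]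
      exact hξ
    exact ⟨Points.mk ⟨p.K, p.str, ⟨p.obj, hp⟩, p.lies⟩, rfl⟩

end Groth.Agent.H64.Pts
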