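import Mathlib.Topology.Homeomorph.Lemmas
import Mathlib.Topology.Maps.OpenQuotient

set_option autoImplicit false
universe v
open Topology

/-! Descent of topological properties of maps along open continuous surjections. -/

namespace Groth.Agent.H64.Pts

/-- a commutative square of topological spaces whose lower horizontal map is an open continuous
surjection, whose upper horizontal map is continuous, and which is surjective onto the fibre
product -/
structure DescSq {X' X Z' Z : Type v} [TopologicalSpace X'] [TopologicalSpace X]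
    [TopologicalSpace Z'] [TopologicalSpace Z] (φ' : X' → Z') (φ : X → Z) (p : Z' → Z)
    (q : X' → X) : Prop where
  hφ : Continuous φ
  hp : Continuous p
  hpo : IsOpenMap p
  hps : Function.Surjective p
  hq : Continuous q
  comm : ∀ x', p (φ' x') = φ (q x')
  cart : ∀ z' x, p z' = φ x → ∃ x', φ' x' = z' ∧ q x' = x

namespace DescSq

variable {X' X Z' Z : Type v} [TopologicalSpace X'] [TopologicalSpace X]
    [TopologicalSpace Z'] [TopologicalSpace Z] {φ' : X' → Z'} {φ : X → Z} {p : Z' → Z}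
    {q : X' → X}

theorem hqs (h : DescSq φ' φ p q) : Function.Surjective q := by
  intro x
  obtain ⟨z', hz'⟩ := h.hps (φ x)
  obtain ⟨x', -, hx'⟩ := h.cart z' x hz'
  exact ⟨x', hx'⟩

theorem preimage_image (h : DescSq φ' φ p q) (A : Set X) :
    p ⁻¹' (φ '' A) = φ' '' (q ⁻¹' A) := by
  ext z'
  constructor
  · rintro ⟨a, ha, hz'⟩
    obtain ⟨x', hx'1, hx'2⟩ := h.cart z' a hz'.symm
    exact ⟨x', by rw [Set.mem_preimage, hx'2]; exact ha, hx'1⟩
  · rintro ⟨x', hx', rfl⟩
    exact ⟨q x', hx', (h.comm x').symm⟩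

theorem image_eq (h : DescSq φ' φ p q) (A : Set X) :
    φ '' A = p '' (φ' '' (q ⁻¹' A)) := by
  rw [← h.preimage_image, Set.image_preimage_eq _ h.hps]

theorem isQuotientMap_p (h : DescSq φ' φ p q) : IsQuotientMap p :=
  h.hpo.isQuotientMap h.hp h.hps

theorem isOpenMap (h : DescSq φ' φ p q) (h' : IsOpenMap φ') : IsOpenMap φ := by
  intro A hA
  rw [h.image_eq]
  exact h.hpo _ (h' _ (hA.preimage h.hq))

theorem isClosedMap (h : DescSq φ' φ p q) (h' : IsClosedMap φ') : IsClosedMap φ := by
  intro A hA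
  rw [← h.isQuotientMap_p.isClosed_preimage, h.preimage_image]
  exact h' _ (hA.preimage h.hq)

theorem injective (h : DescSq φ' φ p q) (h' : Function.Injective φ') : Function.Injective φ := by
  intro x₁ x₂ hx
  obtain ⟨z', hz'⟩ := h.hps (φ x₁)
  obtain ⟨x'₁, h1, rfl⟩ := h.cart z' x₁ hz'
  obtain ⟨x'₂, h2, rfl⟩ := h.cart z' x₂ (hz'.trans hx)
  rw [h' (h1.trans h2.symm)]

theorem surjective (h : DescSq φ' φ p q) (h' : Function.Surjective φ') :
    Function.Surjective φ := by
  intro z
  obtain ⟨z', rfl⟩ := h.hps z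
  obtain ⟨x', rfl⟩ := h' z'
  exact ⟨q x', (h.comm x').symm⟩

theorem isQuotientMap (h : DescSq φ' φ p q) (h' : IsQuotientMap φ') : IsQuotientMap φ := by
  have h1 : IsQuotientMap (p ∘ φ') := h.isQuotientMap_p.comp h'
  have h2 : p ∘ φ' = φ ∘ q := funext h.comm
  rw [h2] at h1
  exact IsQuotientMap.of_comp h.hq h.hφ h1

theorem isHomeomorph (h : DescSq φ' φ p q) (h' : IsHomeomorph φ') : IsHomeomorph φ :=
  ⟨h.hφ, h.isOpenMap h'.isOpenMap, h.injective h'.injective, h.surjective h'.surjective⟩

end DescSq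

/-- a property of maps of topological spaces that is invariant under homeomorphisms and descends
along `DescSq` -/
structure TopQ (Q : ∀ {X Y : Type v} [TopologicalSpace X] [TopologicalSpace Y], (X → Y) → Prop) :
    Prop where
  homeo_comp : ∀ {X Y Y' : Type v} [TopologicalSpace X] [TopologicalSpace Y] [TopologicalSpace Y']
    (φ : X → Y) (h : Y → Y'), IsHomeomorph h → Q φ → Q (h ∘ φ)
  comp_homeo : ∀ {X' X Y : Type v} [TopologicalSpace X'] [TopologicalSpace X] [TopologicalSpace Y]
    (h : X' → X) (φ : X → Y), IsHomeomorph h → Q φ → Q (φ ∘ h)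
  descent : ∀ {X' X Z' Z : Type v} [TopologicalSpace X'] [TopologicalSpace X]
    [TopologicalSpace Z'] [TopologicalSpace Z] {φ' : X' → Z'} {φ : X → Z} {p : Z' → Z}
    {q : X' → X}, DescSq φ' φ p q → Q φ' → Q φ

theorem topQ_isOpenMap : TopQ.{v} (fun {_ _} [_] [_] φ => IsOpenMap φ) where
  homeo_comp _ _ hh hφ := hh.isOpenMap.comp hφ
  comp_homeo _ _ hh hφ := hφ.comp hh.isOpenMap
  descent h h' := h.isOpenMap h'

theorem topQ_isClosedMap : TopQ.{v} (fun {_ _} [_] [_] φ => IsClosedMap φ) where
  homeo_comp _ _ hh hφ := hh.isClosedMap.comp hφ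
  comp_homeo _ _ hh hφ := hφ.comp hh.isClosedMap
  descent h h' := h.isClosedMap h'

theorem topQ_injective : TopQ.{v} (fun {_ _} [_] [_] φ => Function.Injective φ) where
  homeo_comp _ _ hh hφ := hh.injective.comp hφ
  comp_homeo _ _ hh hφ := hφ.comp hh.injective
  descent h h' := h.injective h'

theorem topQ_isQuotientMap : TopQ.{v} (fun {_ _} [_] [_] φ => IsQuotientMap φ) where
  homeo_comp _ _ hh hφ := hh.isQuotientMap.comp hφ
  comp_homeo _ _ hh hφ := hφ.comp hh.isQuotientMap
  descent h h' := h.isQuotientMap h'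

theorem topQ_isHomeomorph : TopQ.{v} (fun {_ _} [_] [_] φ => IsHomeomorph φ) where
  homeo_comp _ _ hh hφ := hh.comp hφ
  comp_homeo _ _ hh hφ := hφ.comp hh
  descent h h' := h.isHomeomorph h'

end Groth.Agent.H64.Pts
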