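import Groth.Agent.H64.Pts.Compact
import Groth.Agent.H64.Stk.FpPaste2
import Groth.Agent.H64.Psh.FpAlg
import Groth.Agent.H65.AlgStQC5

set_option autoImplicit false
open CategoryTheory CategoryTheory.Limits Opposite AlgebraicGeometry
universe u

/-! Universally injective morphisms of algebraic stacks: base change, composition, the affine test
and fppf descent. -/

namespace Groth.Agent.H64.Pts

open AlgSt Groth.Agent.H32 Groth.Agent.H64 Groth.Agent.H64.PTh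

variable {S : Scheme.{u}}

section general

variable {𝒳 𝒴 𝒵 𝒲 : AlgSt.Cat S}

/-- injectivity on points of the projection `𝒲 ×_𝒵 (𝒵 ×_𝒴 𝒳) ⟶ 𝒲` is the same as that of
`𝒲 ×_𝒴 𝒳 ⟶ 𝒲` -/
theorem injective_fpFst_paste_iff (f : 𝒳 ⥤ᵇ 𝒴) (g : 𝒵 ⥤ᵇ 𝒴) (k : 𝒲 ⥤ᵇ 𝒵) :
    Function.Injective (Points.map (FibCat.fpFst (BasedFunctor.comp k g) f)) ↔
      Function.Injective (Points.map (FibCat.fpFst k (FibCat.fpFst g f))) := by
  have h2 : Points.map (FibCat.fpFst (BasedFunctor.comp k g) f) =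
      Points.map (FibCat.fpFst k (FibCat.fpFst g f)) ∘ Points.map (fpPaste f g k) :=
    funext fun r => map_comp (fpPaste f g k) (FibCat.fpFst k (FibCat.fpFst g f)) r
  rw [h2]
  exact Function.Injective.of_comp_iff' _
    (map_bijective_of_isEquivOver (isEquivOver_fpPaste f g k))

/-- base change of universally injective morphisms -/
theorem isUnivInjective_fpFst (K : Precoverage Scheme.{u}) (f : 𝒳 ⥤ᵇ 𝒴) (g : 𝒵 ⥤ᵇ 𝒴)
    (hf : IsUnivInjective K f) : IsUnivInjective K (FibCat.fpFst g f) := by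
  intro 𝒲 h𝒲 k
  exact (injective_fpFst_paste_iff f g k).mp (hf 𝒲 h𝒲 (BasedFunctor.comp k g))

/-- a universally injective projection is injective on points -/
theorem injective_of_isUnivInjective_fpFst (K : Precoverage Scheme.{u}) (f : 𝒳 ⥤ᵇ 𝒴)
    (g : 𝒵 ⥤ᵇ 𝒴) (h𝒵 : IsAlgStack K 𝒵) (h : IsUnivInjective K (FibCat.fpFst g f)) :
    Function.Injective (Points.map (FibCat.fpFst g f)) :=
  (injective_fpFst_paste_iff f g (BasedFunctor.id 𝒵)).mpr (h 𝒵 h𝒵 (BasedFunctor.id 𝒵))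

/-- injectivity on points of the projection `𝒵 ×_𝒴 𝒳 ⟶ 𝒵` only depends on the 2-isomorphism class
of `𝒵 ⟶ 𝒴` -/
theorem injective_fpFst_of_iso (f : 𝒳 ⥤ᵇ 𝒴) {F F' : 𝒵 ⥤ᵇ 𝒴} (α : F' ≅ F)
    (h : Function.Injective (Points.map (FibCat.fpFst F f))) :
    Function.Injective (Points.map (FibCat.fpFst F' f)) := by
  have : (BasedFunctor.id 𝒴).toFunctor.Full := (inferInstance : (𝟭 𝒴.obj).Full)
  have : (BasedFunctor.id 𝒴).toFunctor.Faithful := (inferInstance : (𝟭 𝒴.obj).Faithful)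
  let α' : BasedFunctor.comp F' (BasedFunctor.id 𝒴) ≅ BasedFunctor.comp (BasedFunctor.id 𝒵) F := α
  let Ψ : FibCat.fp F' f ⥤ᵇ FibCat.fp F f :=
    fpMap F f F' f (BasedFunctor.id 𝒵) (BasedFunctor.id 𝒳) (BasedFunctor.id 𝒴) α' (Iso.refl _)
  have hΨ : FibCat.IsEquivOver Ψ :=
    isEquivOver_fpMap _ _ _ _ _ _ _ _ _ (isEquivOver_id 𝒵) (isEquivOver_id 𝒳)
  have h1 : BasedFunctor.comp Ψ (FibCat.fpFst F f) = FibCat.fpFst F' f := rfl
  have h2 : Points.map (FibCat.fpFst F' f) = Points.map (FibCat.fpFst F f) ∘ Points.map Ψ := by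
    rw [← h1]
    exact funext fun r => map_comp Ψ (FibCat.fpFst F f) r
  rw [h2]
  exact h.comp (map_bijective_of_isEquivOver hΨ).1

/-- descent of injectivity, pointwise -/
theorem eq_of_injective_fpFst {𝒯 𝒵' : AlgSt.Cat S} (h𝒯 : FibCat.IsFibGrpd 𝒯.p)
    (h𝒵 : FibCat.IsFibGrpd 𝒵.p) (h𝒵' : FibCat.IsFibGrpd 𝒵'.p) (π : 𝒵' ⥤ᵇ 𝒵) (φ : 𝒯 ⥤ᵇ 𝒵)
    (h : Function.Injective (Points.map (FibCat.fpFst π φ))) (z' : Points 𝒵') (x₁ x₂ : Points 𝒯)
    (h₁ : Points.map π z' = Points.map φ x₁) (h₂ : Points.map π z' = Points.map φ x₂) :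
    x₁ = x₂ := by
  obtain ⟨w₁, hw₁, hw₁'⟩ := exists_points_fp_of_map_eq h𝒯 h𝒵 h𝒵' φ π z' x₁ h₁
  obtain ⟨w₂, hw₂, hw₂'⟩ := exists_points_fp_of_map_eq h𝒯 h𝒵 h𝒵' φ π z' x₂ h₂
  have : w₁ = w₂ := h (hw₁.trans hw₂.symm)
  rw [← hw₁', ← hw₂', this]

/-- descent of injectivity along a morphism surjective on points -/
theorem injective_of_injective_fpFst {𝒯 𝒵' : AlgSt.Cat S} (h𝒯 : FibCat.IsFibGrpd 𝒯.p)
    (h𝒵 : FibCat.IsFibGrpd 𝒵.p) (h𝒵' : FibCat.IsFibGrpd 𝒵'.p) (π : 𝒵' ⥤ᵇ 𝒵) (φ : 𝒯 ⥤ᵇ 𝒵)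
    (hπ : IsSurjective π) (h : Function.Injective (Points.map (FibCat.fpFst π φ))) :
    Function.Injective (Points.map φ) := by
  intro x₁ x₂ hx
  obtain ⟨z', hz'⟩ := hπ (Points.map φ x₁)
  exact eq_of_injective_fpFst h𝒯 h𝒵 h𝒵' π φ h z' x₁ x₂ hz' (hz'.trans hx)

end general

section main

variable {𝒳 𝒴 𝒵 : AlgSt.Cat S}

/-- composition of universally injective morphisms -/
theorem isUnivInjective_comp (h𝒴 : IsAlgStack Scheme.fppfPrecoverage 𝒴)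
    (h𝒵 : IsAlgStack Scheme.fppfPrecoverage 𝒵) (f : 𝒳 ⥤ᵇ 𝒴) (g : 𝒴 ⥤ᵇ 𝒵)
    (hf : IsUnivInjective Scheme.fppfPrecoverage f)
    (hg : IsUnivInjective Scheme.fppfPrecoverage g) :
    IsUnivInjective Scheme.fppfPrecoverage (BasedFunctor.comp f g) := by
  intro 𝒲 h𝒲 k
  have hQ : IsAlgStack Scheme.fppfPrecoverage (FibCat.fp k g) :=
    isAlgStack_fp h𝒵.isStack.1 h𝒵.diag h𝒲 h𝒴 k g
  have h1 := hg 𝒲 h𝒲 k
  have h2 := hf (FibCat.fp k g) hQ (FibCat.fpSnd k g)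
  have h3 : BasedFunctor.comp (fpPaste₂ f g k)
      (BasedFunctor.comp (FibCat.fpFst (FibCat.fpSnd k g) f) (FibCat.fpFst k g)) =
      FibCat.fpFst k (BasedFunctor.comp f g) := rfl
  have h4 : Points.map (FibCat.fpFst k (BasedFunctor.comp f g)) =
      Points.map (FibCat.fpFst k g) ∘ Points.map (FibCat.fpFst (FibCat.fpSnd k g) f) ∘
        Points.map (fpPaste₂ f g k) := by
    rw [← h3]
    funext r
    rw [map_comp, map_comp]
    rfl
  rw [h4]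
  exact h1.comp (h2.comp (map_bijective_of_isEquivOver (isEquivOver_fpPaste₂ f g k)).1)

/-- every point of `𝒳` is a point of a chart from an affine scheme -/
theorem exists_ofChart_eq_affine (h𝒳 : FibCat.IsFibGrpd 𝒳.p) (ξ : Points 𝒳) :
    ∃ (U' : Over S) (_ : IsAffine U'.left) (z : FibCat.overCat U' ⥤ᵇ 𝒳) (t : ↥U'.left),
      Points.ofChart z t = ξ := by
  obtain ⟨p, rfl⟩ := Points.mk_surjective ξ
  obtain ⟨z, i, -⟩ := exists_yoneda h𝒳 p.obj p.lies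
  let t₀ : ↥(Over.mk p.str).left := IsLocalRing.closedPoint p.K
  refine ⟨Over.mk p.str, (inferInstance : IsAffine (Spec (CommRingCat.of p.K))), z, t₀, ?_⟩
  apply Points.sound
  refine ⟨_, 𝟙 _, z.map (ovTo _) ≫ i.hom, trivial⟩

/-- the affine test for universal injectivity -/
theorem isUnivInjective_of_forall_affine_fpFst (h𝒳 : IsAlgStack Scheme.fppfPrecoverage 𝒳)
    (h𝒴 : IsAlgStack Scheme.fppfPrecoverage 𝒴) (f : 𝒳 ⥤ᵇ 𝒴)
    (h : ∀ (Z : Over S) [IsAffine Z.left] (z : FibCat.overCat Z ⥤ᵇ 𝒴),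
      IsUnivInjective Scheme.fppfPrecoverage (FibCat.fpFst z f)) :
    IsUnivInjective Scheme.fppfPrecoverage f := by
  intro 𝒵 h𝒵 g x₁ x₂ hx
  have hP : IsAlgStack Scheme.fppfPrecoverage (FibCat.fp g f) :=
    isAlgStack_fp h𝒴.isStack.1 h𝒴.diag h𝒵 h𝒳 g f
  obtain ⟨U', hU', y, t, ht⟩ :=
    exists_ofChart_eq_affine h𝒵.isStack.1 (Points.map (FibCat.fpFst g f) x₁)
  have hU's : IsAlgStack Scheme.fppfPrecoverage (FibCat.overCat U') :=
    Groth.Agent.H65.AlgStQC5.isAlgStack_overCat U'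
  have h1 : Function.Injective (Points.map (FibCat.fpFst (BasedFunctor.comp y g) f)) :=
    injective_of_isUnivInjective_fpFst _ f (BasedFunctor.comp y g) hU's
      (h U' (BasedFunctor.comp y g))
  have h2 : Function.Injective (Points.map (FibCat.fpFst y (FibCat.fpFst g f))) :=
    (injective_fpFst_paste_iff f g y).mp h1
  have h3 : Points.map y (ptU U' t) = Points.map (FibCat.fpFst g f) x₁ := by
    rw [← ofChart_eq]; exact ht
  exact eq_of_injective_fpFst hP.isStack.1 h𝒵.isStack.1 hU's.isStack.1 y (FibCat.fpFst g f) h2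
    (ptU U' t) x₁ x₂ h3 (h3.trans hx)

/-- fppf descent of universal injectivity -/
theorem isUnivInjective_of_fpFst_fppf_cover (h𝒳 : IsAlgStack Scheme.fppfPrecoverage 𝒳)
    (h𝒴 : IsAlgStack Scheme.fppfPrecoverage 𝒴) (f : 𝒳 ⥤ᵇ 𝒴)
    (W : AlgSp.Space S) (w : ofSp W.obj ⥤ᵇ 𝒴)
    (hw₃ : RepByAlgSpWith AlgSp.IsSurjectiveMor w)
    (h : IsUnivInjective Scheme.fppfPrecoverage (FibCat.fpFst w f)) :
    IsUnivInjective Scheme.fppfPrecoverage f := by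
  intro 𝒵 h𝒵 g
  have hW : IsAlgStack Scheme.fppfPrecoverage (ofSp W.obj) := (isDM_ofSp W).1
  have hP : IsAlgStack Scheme.fppfPrecoverage (FibCat.fp g f) :=
    isAlgStack_fp h𝒴.isStack.1 h𝒴.diag h𝒵 h𝒳 g f
  have hZ' : IsAlgStack Scheme.fppfPrecoverage (FibCat.fp g w) :=
    isAlgStack_fp h𝒴.isStack.1 h𝒴.diag h𝒵 hW g w
  have hws : IsSurjective w :=
    (isSurjective_iff_repByAlgSpWith hW.isStack.1 h𝒴.isStack.1 w
      (RepByAlgSpWith.repByAlgSp1 hw₃)).mpr hw₃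
  have hπ : IsSurjective (FibCat.fpFst g w) :=
    isSurjective_fpFst hW.isStack.1 h𝒴.isStack.1 h𝒵.isStack.1 w g hws
  refine injective_of_injective_fpFst hP.isStack.1 h𝒵.isStack.1 hZ'.isStack.1
    (FibCat.fpFst g w) (FibCat.fpFst g f) hπ ?_
  refine (injective_fpFst_paste_iff f g (FibCat.fpFst g w)).mp ?_
  refine injective_fpFst_of_iso f (FibCat.fpIso g w) ?_
  exact (injective_fpFst_paste_iff f w (FibCat.fpSnd g w)).mpr (h _ hZ' (FibCat.fpSnd g w))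

end main

end Groth.Agent.H64.Pts
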