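import Groth.Agent.H64.Pts.ChartMor
import Groth.Agent.H64.Pts.TopDescent
import Groth.Agent.H64.Psh.FpAlg
import Groth.Agent.H64.Psh.PDescent

set_option autoImplicit false
universe u
open CategoryTheory CategoryTheory.Limits AlgebraicGeometry Opposite

/-! Universal topological properties of morphisms representable by algebraic spaces: tested on
base changes to schemes, or on points of base changes to algebraic stacks. -/

namespace Groth.Agent.H64.Pts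

open AlgSt Groth.Agent.H32 Groth.Agent.H64 Groth.Agent.H64.Recog Groth.Agent.H64.FpRep
  Groth.Agent.H64.PTh

variable {S : Scheme.{u}}

/-- Given a presentation `V ⟶ Z₀` of `Z₀ ×_𝒴 𝒳` and a map of sheaves `t : T ⟶ Z₀`, the sheaf fibre
product `T ×_{Z₀} V` presents `T ×_𝒴 𝒳`. -/
theorem exists_presentation_pullback' {𝒳 𝒴 : AlgSt.Cat S} (f : 𝒳 ⥤ᵇ 𝒴)
    {Z₀ T V : AlgSp.Sp S} (w : ofSp Z₀ ⥤ᵇ 𝒴) (t : T ⟶ Z₀)
    (a : V ⟶ Z₀) (eV : ofSp V ⥤ᵇ FibCat.fp w f) (heV : FibCat.IsEquivOver eV)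
    (αV : BasedFunctor.comp eV (FibCat.fpFst w f) ≅ ofSpMap a)
    {X : AlgSp.Sp S} (fst : X ⟶ T) (snd : X ⟶ V) (sq : IsPullback fst snd t a) :
    ∃ e₁ : ofSp X ⥤ᵇ FibCat.fp (BasedFunctor.comp (ofSpMap t) w) f, FibCat.IsEquivOver e₁ ∧
      Nonempty (BasedFunctor.comp e₁ (FibCat.fpFst (BasedFunctor.comp (ofSpMap t) w) f) ≅
        ofSpMap fst) := by
  have sq' : IsPullback fst.hom snd.hom t.hom a.hom := sq.map (sheafToPresheaf _ _)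
  let L : ofSp X ⥤ᵇ FibCat.fp (ofSpMap t) (ofSpMap a) := pbLiftGSq sq'
  have hL : FibCat.IsEquivOver L := isEquivOver_pbLiftGSq sq'
  obtain ⟨Ψ, hΨ, hΨ1⟩ := exists_equiv_fp_of_square (FibCat.fpFst w f) (ofSpMap a) eV
    (BasedFunctor.id _) heV (isEquivOver_id _) αV.symm (ofSpMap t)
  let M : ofSp X ⥤ᵇ FibCat.fp (ofSpMap t) (FibCat.fpFst w f) := BasedFunctor.comp L Ψ
  have hM : FibCat.IsEquivOver M := isEquivOver_comp hL hΨ
  have hMΦ : BasedFunctor.comp M (FibCat.fpFst (ofSpMap t) (FibCat.fpFst w f)) = ofSpMap fst := by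
    have hΨ1' : BasedFunctor.comp Ψ (FibCat.fpFst (ofSpMap t) (FibCat.fpFst w f)) =
        FibCat.fpFst (ofSpMap t) (ofSpMap a) := hΨ1
    show BasedFunctor.comp L (BasedFunctor.comp Ψ (FibCat.fpFst (ofSpMap t) (FibCat.fpFst w f))) = _
    rw [hΨ1']
    rfl
  let pA : FibCat.fp (BasedFunctor.comp (ofSpMap t) w) f ⥤ᵇ
      FibCat.fp (ofSpMap t) (FibCat.fpFst w f) := fpPaste f w (ofSpMap t)
  have hpA : FibCat.IsEquivOver pA := isEquivOver_fpPaste f w (ofSpMap t)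
  obtain ⟨dA⟩ := IsEquivOver.nonempty_data hpA
  let e₁ : ofSp X ⥤ᵇ FibCat.fp (BasedFunctor.comp (ofSpMap t) w) f := BasedFunctor.comp M dA.inv
  refine ⟨e₁, isEquivOver_comp hM (isEquivOver_inv dA), ?_⟩
  have h1 : BasedFunctor.comp e₁ (FibCat.fpFst (BasedFunctor.comp (ofSpMap t) w) f) =
      BasedFunctor.comp M (BasedFunctor.comp (BasedFunctor.comp dA.inv pA)
        (FibCat.fpFst (ofSpMap t) (FibCat.fpFst w f))) := rfl
  have i2 : BasedFunctor.comp M (BasedFunctor.comp (BasedFunctor.comp dA.inv pA)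
        (FibCat.fpFst (ofSpMap t) (FibCat.fpFst w f))) ≅
      BasedFunctor.comp M (BasedFunctor.comp (BasedFunctor.id _)
        (FibCat.fpFst (ofSpMap t) (FibCat.fpFst w f))) :=
    bwlIso M (bwrIso dA.counit (FibCat.fpFst (ofSpMap t) (FibCat.fpFst w f)))
  have h3 : BasedFunctor.comp M (BasedFunctor.comp (BasedFunctor.id _)
        (FibCat.fpFst (ofSpMap t) (FibCat.fpFst w f))) = ofSpMap fst := hMΦ
  exact ⟨eqToIso h1 ≪≫ i2 ≪≫ eqToIso h3⟩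

variable {Q : ∀ {X Y : Type (u + 1)} [TopologicalSpace X] [TopologicalSpace Y], (X → Y) → Prop}

/-- the property of morphisms of sheaves: `Q` on points -/
def onPts (Q : ∀ {X Y : Type (u + 1)} [TopologicalSpace X] [TopologicalSpace Y], (X → Y) → Prop) :
    MorphismProperty (AlgSp.Sp S) := fun _ _ a => Q (AlgSp.Points.map a)

theorem forall_stack_of_repByAlgSpWith_univSp (hQ : TopQ.{u + 1} Q) {𝒳 𝒴 : AlgSt.Cat S}
    (h𝒳 : IsAlgStack Scheme.fppfPrecoverage 𝒳) (h𝒴 : IsAlgStack Scheme.fppfPrecoverage 𝒴)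
    (f : 𝒳 ⥤ᵇ 𝒴) (h : RepByAlgSpWith (AlgSp.UnivSp (onPts Q)) f)
    (𝒵 : AlgSt.Cat S) (h𝒵 : IsAlgStack Scheme.fppfPrecoverage 𝒵) (g : 𝒵 ⥤ᵇ 𝒴) :
    Q (Points.map (FibCat.fpFst g f)) := by
  obtain ⟨V, z, hz₁, hz₂⟩ := h𝒵.atlas
  obtain ⟨F, e₀, he₀, hUQ⟩ := h V (BasedFunctor.comp z g)
  have h𝒲 : IsAlgStack Scheme.fppfPrecoverage (FibCat.fp g f) :=
    isAlgStack_fp h𝒴.isStack.1 h𝒴.diag h𝒵 h𝒳 g f
  let e : ofSp F.obj ⥤ᵇ FibCat.fp z (FibCat.fpFst g f) := BasedFunctor.comp e₀ (fpPaste f g z)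
  have he : FibCat.IsEquivOver e := isEquivOver_comp he₀ (isEquivOver_fpPaste f g z)
  have hQa : Q (mrα (FibCat.fpFst g f) z e) :=
    hUQ (AlgSp.IsAlgSpace.yon_obj V) (𝟙 _) (𝟙 _) _ IsPullback.of_id_fst
  have sq : DescSq (mrα (FibCat.fpFst g f) z e) (Points.map (FibCat.fpFst g f)) (chartP z)
      (mrβ (FibCat.fpFst g f) z e) :=
    { hφ := continuous_map h𝒵 _
      hp := continuous_chartP h𝒵 z
      hpo := isOpenMap_chartP h𝒵.isStack.1 z hz₁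
      hps := surjective_chartP h𝒵.isStack.1 z hz₂
      hq := (continuous_map h𝒲 _).comp (continuous_σ F)
      comm := chartP_mrα _ z e
      cart := exists_mr_of_chartP_eq h𝒲.isStack.1 h𝒵.isStack.1 _ z e he }
  exact hQ.descent sq hQa

theorem repByAlgSpWith_univSp_of_forall_stack (hQ : TopQ.{u + 1} Q) {𝒳 𝒴 : AlgSt.Cat S}
    (h𝒳 : IsAlgStack Scheme.fppfPrecoverage 𝒳) (h𝒴 : IsAlgStack Scheme.fppfPrecoverage 𝒴)
    (f : 𝒳 ⥤ᵇ 𝒴) (hf : RepByAlgSp1 f)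
    (H : ∀ (𝒵 : AlgSt.Cat S), IsAlgStack Scheme.fppfPrecoverage 𝒵 → ∀ (g : 𝒵 ⥤ᵇ 𝒴),
      Q (Points.map (FibCat.fpFst g f))) :
    RepByAlgSpWith (AlgSp.UnivSp (onPts Q)) f := by
  apply repByAlgSpWith_of_hasP
  intro U z
  obtain ⟨V, a, e, he, ⟨α⟩⟩ := exists_presentation h𝒳.isStack.1 h𝒴.isStack.1 f hf (yonSpace U) z
  refine ⟨V, a, e, he, ⟨α⟩, ?_⟩
  intro Z Z' hZ g₀ fst snd sq
  have hZ' : AlgSp.IsAlgSpace Z' :=
    Groth.Agent.H49.isAlgSpace_of_isPullback sq (AlgSp.IsAlgSpace.yon_obj U).diag V.property hZ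
  obtain ⟨e₁, he₁, ⟨α₁⟩⟩ := exists_presentation_pullback' f z g₀ a.hom e he α snd fst sq.flip
  have hZs : IsAlgStack Scheme.fppfPrecoverage (ofSp Z) := (isDM_ofSp ⟨Z, hZ⟩).1
  have hZ's : IsAlgStack Scheme.fppfPrecoverage (ofSp Z') := (isDM_ofSp ⟨Z', hZ'⟩).1
  have hfp : IsAlgStack Scheme.fppfPrecoverage (FibCat.fp (BasedFunctor.comp (ofSpMap g₀) z) f) :=
    isAlgStack_fp h𝒴.isStack.1 h𝒴.diag hZs h𝒳 _ f
  have h1 := H (ofSp Z) hZs (BasedFunctor.comp (ofSpMap g₀) z)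
  have h2 : Q (Points.map (FibCat.fpFst (BasedFunctor.comp (ofSpMap g₀) z) f) ∘ Points.map e₁) :=
    hQ.comp_homeo _ _ (isHomeomorph_map_of_isEquivOver hZ's hfp e₁ he₁) h1
  have h3 : Points.map (FibCat.fpFst (BasedFunctor.comp (ofSpMap g₀) z) f) ∘ Points.map e₁ =
      Points.map (ofSpMap snd) := by
    funext r
    show Points.map _ (Points.map e₁ r) = _
    rw [← map_comp, map_eq_of_hom α₁.hom]
  rw [h3] at h2
  have h4 : AlgSp.Points.map snd =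
      (σHomeo ⟨Z, hZ⟩).symm ∘ (Points.map (ofSpMap snd) ∘ σHomeo ⟨Z', hZ'⟩) := by
    funext r
    show _ = (σHomeo ⟨Z, hZ⟩).symm (Points.map (ofSpMap snd) (σ Z' r))
    rw [σ_map]
    exact ((σHomeo ⟨Z, hZ⟩).symm_apply_apply _).symm
  show Q (AlgSp.Points.map snd)
  rw [h4]
  exact hQ.homeo_comp _ _ (σHomeo ⟨Z, hZ⟩).symm.isHomeomorph
    (hQ.comp_homeo _ _ (σHomeo ⟨Z', hZ'⟩).isHomeomorph h2)

theorem repByAlgSpWith_univSp_iff (hQ : TopQ.{u + 1} Q) {𝒳 𝒴 : AlgSt.Cat S}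
    (h𝒳 : IsAlgStack Scheme.fppfPrecoverage 𝒳) (h𝒴 : IsAlgStack Scheme.fppfPrecoverage 𝒴)
    (f : 𝒳 ⥤ᵇ 𝒴) (hf : RepByAlgSp1 f) :
    RepByAlgSpWith (AlgSp.UnivSp (onPts Q)) f ↔
      ∀ (𝒵 : AlgSt.Cat S), IsAlgStack Scheme.fppfPrecoverage 𝒵 → ∀ (g : 𝒵 ⥤ᵇ 𝒴),
        Q (Points.map (FibCat.fpFst g f)) :=
  ⟨forall_stack_of_repByAlgSpWith_univSp hQ h𝒳 h𝒴 f,
    repByAlgSpWith_univSp_of_forall_stack hQ h𝒳 h𝒴 f hf⟩

end Groth.Agent.H64.Pts
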